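import Cfsg.Agent.CosetEnum.FiTwentyThree.SimpleDefs

/-! Machine-generated data and checks. -/

set_option maxRecDepth 100000
set_option Elab.async false

namespace Cfsg.Agent.CosetEnum.FiTwentyThree

open Cfsg.Agent.CosetCert

theorem lev0_b0 : allB (fun r => Nat.ble lev0.size r || lev0.ok Cfsg.Agent.CosetCert.FiTwentyThree.data.N Cfsg.Agent.CosetCert.FiTwentyThree.data.look r) 8 0 = true := by
  decide +kernel

theorem lev0_b1 : allB (fun r => Nat.ble lev0.size r || lev0.ok Cfsg.Agent.CosetCert.FiTwentyThree.data.N Cfsg.Agent.CosetCert.FiTwentyThree.data.look r) 8 256 = true := by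
  decide +kernel

theorem lev0_b2 : allB (fun r => Nat.ble lev0.size r || lev0.ok Cfsg.Agent.CosetCert.FiTwentyThree.data.N Cfsg.Agent.CosetCert.FiTwentyThree.data.look r) 8 512 = true := by
  decide +kernel

theorem lev0_b3 : allB (fun r => Nat.ble lev0.size r || lev0.ok Cfsg.Agent.CosetCert.FiTwentyThree.data.N Cfsg.Agent.CosetCert.FiTwentyThree.data.look r) 8 768 = true := by
  decide +kernel

theorem lev0_b4 : allB (fun r => Nat.ble lev0.size r || lev0.ok Cfsg.Agent.CosetCert.FiTwentyThree.data.N Cfsg.Agent.CosetCert.FiTwentyThree.data.look r) 8 1024 = true := by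
  decide +kernel

theorem lev0_b5 : allB (fun r => Nat.ble lev0.size r || lev0.ok Cfsg.Agent.CosetCert.FiTwentyThree.data.N Cfsg.Agent.CosetCert.FiTwentyThree.data.look r) 8 1280 = true := by
  decide +kernel

theorem lev0_b6 : allB (fun r => Nat.ble lev0.size r || lev0.ok Cfsg.Agent.CosetCert.FiTwentyThree.data.N Cfsg.Agent.CosetCert.FiTwentyThree.data.look r) 8 1536 = true := by
  decide +kernel

theorem lev0_b7 : allB (fun r => Nat.ble lev0.size r || lev0.ok Cfsg.Agent.CosetCert.FiTwentyThree.data.N Cfsg.Agent.CosetCert.FiTwentyThree.data.look r) 8 1792 = true := by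
  decide +kernel

theorem lev0_b8 : allB (fun r => Nat.ble lev0.size r || lev0.ok Cfsg.Agent.CosetCert.FiTwentyThree.data.N Cfsg.Agent.CosetCert.FiTwentyThree.data.look r) 8 2048 = true := by
  decide +kernel

theorem lev0_b9 : allB (fun r => Nat.ble lev0.size r || lev0.ok Cfsg.Agent.CosetCert.FiTwentyThree.data.N Cfsg.Agent.CosetCert.FiTwentyThree.data.look r) 8 2304 = true := by
  decide +kernel

theorem lev0_b10 : allB (fun r => Nat.ble lev0.size r || lev0.ok Cfsg.Agent.CosetCert.FiTwentyThree.data.N Cfsg.Agent.CosetCert.FiTwentyThree.data.look r) 8 2560 = true := by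
  decide +kernel

theorem lev0_b11 : allB (fun r => Nat.ble lev0.size r || lev0.ok Cfsg.Agent.CosetCert.FiTwentyThree.data.N Cfsg.Agent.CosetCert.FiTwentyThree.data.look r) 8 2816 = true := by
  decide +kernel

theorem lev0_b12 : allB (fun r => Nat.ble lev0.size r || lev0.ok Cfsg.Agent.CosetCert.FiTwentyThree.data.N Cfsg.Agent.CosetCert.FiTwentyThree.data.look r) 8 3072 = true := by
  decide +kernel

theorem lev0_b13 : allB (fun r => Nat.ble lev0.size r || lev0.ok Cfsg.Agent.CosetCert.FiTwentyThree.data.N Cfsg.Agent.CosetCert.FiTwentyThree.data.look r) 8 3328 = true := by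
  decide +kernel

theorem lev0_b14 : allB (fun r => Nat.ble lev0.size r || lev0.ok Cfsg.Agent.CosetCert.FiTwentyThree.data.N Cfsg.Agent.CosetCert.FiTwentyThree.data.look r) 8 3584 = true := by
  decide +kernel

theorem lev0_b15 : allB (fun r => Nat.ble lev0.size r || lev0.ok Cfsg.Agent.CosetCert.FiTwentyThree.data.N Cfsg.Agent.CosetCert.FiTwentyThree.data.look r) 8 3840 = true := by
  decide +kernel

theorem lev0_b16 : allB (fun r => Nat.ble lev0.size r || lev0.ok Cfsg.Agent.CosetCert.FiTwentyThree.data.N Cfsg.Agent.CosetCert.FiTwentyThree.data.look r) 8 4096 = true := by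
  decide +kernel

theorem lev0_b17 : allB (fun r => Nat.ble lev0.size r || lev0.ok Cfsg.Agent.CosetCert.FiTwentyThree.data.N Cfsg.Agent.CosetCert.FiTwentyThree.data.look r) 8 4352 = true := by
  decide +kernel

theorem lev0_b18 : allB (fun r => Nat.ble lev0.size r || lev0.ok Cfsg.Agent.CosetCert.FiTwentyThree.data.N Cfsg.Agent.CosetCert.FiTwentyThree.data.look r) 8 4608 = true := by
  decide +kernel

theorem lev0_b19 : allB (fun r => Nat.ble lev0.size r || lev0.ok Cfsg.Agent.CosetCert.FiTwentyThree.data.N Cfsg.Agent.CosetCert.FiTwentyThree.data.look r) 8 4864 = true := by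
  decide +kernel

theorem lev0_b20 : allB (fun r => Nat.ble lev0.size r || lev0.ok Cfsg.Agent.CosetCert.FiTwentyThree.data.N Cfsg.Agent.CosetCert.FiTwentyThree.data.look r) 8 5120 = true := by
  decide +kernel

theorem lev0_b21 : allB (fun r => Nat.ble lev0.size r || lev0.ok Cfsg.Agent.CosetCert.FiTwentyThree.data.N Cfsg.Agent.CosetCert.FiTwentyThree.data.look r) 8 5376 = true := by
  decide +kernel

theorem lev0_b22 : allB (fun r => Nat.ble lev0.size r || lev0.ok Cfsg.Agent.CosetCert.FiTwentyThree.data.N Cfsg.Agent.CosetCert.FiTwentyThree.data.look r) 8 5632 = true := by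
  decide +kernel

theorem lev0_b23 : allB (fun r => Nat.ble lev0.size r || lev0.ok Cfsg.Agent.CosetCert.FiTwentyThree.data.N Cfsg.Agent.CosetCert.FiTwentyThree.data.look r) 8 5888 = true := by
  decide +kernel

theorem lev0_b24 : allB (fun r => Nat.ble lev0.size r || lev0.ok Cfsg.Agent.CosetCert.FiTwentyThree.data.N Cfsg.Agent.CosetCert.FiTwentyThree.data.look r) 8 6144 = true := by
  decide +kernel

theorem lev0_b25 : allB (fun r => Nat.ble lev0.size r || lev0.ok Cfsg.Agent.CosetCert.FiTwentyThree.data.N Cfsg.Agent.CosetCert.FiTwentyThree.data.look r) 8 6400 = true := by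
  decide +kernel

theorem lev0_b26 : allB (fun r => Nat.ble lev0.size r || lev0.ok Cfsg.Agent.CosetCert.FiTwentyThree.data.N Cfsg.Agent.CosetCert.FiTwentyThree.data.look r) 8 6656 = true := by
  decide +kernel

theorem lev0_b27 : allB (fun r => Nat.ble lev0.size r || lev0.ok Cfsg.Agent.CosetCert.FiTwentyThree.data.N Cfsg.Agent.CosetCert.FiTwentyThree.data.look r) 8 6912 = true := by
  decide +kernel

theorem lev0_b28 : allB (fun r => Nat.ble lev0.size r || lev0.ok Cfsg.Agent.CosetCert.FiTwentyThree.data.N Cfsg.Agent.CosetCert.FiTwentyThree.data.look r) 8 7168 = true := by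
  decide +kernel

theorem lev0_b29 : allB (fun r => Nat.ble lev0.size r || lev0.ok Cfsg.Agent.CosetCert.FiTwentyThree.data.N Cfsg.Agent.CosetCert.FiTwentyThree.data.look r) 8 7424 = true := by
  decide +kernel

theorem lev0_b30 : allB (fun r => Nat.ble lev0.size r || lev0.ok Cfsg.Agent.CosetCert.FiTwentyThree.data.N Cfsg.Agent.CosetCert.FiTwentyThree.data.look r) 8 7680 = true := by
  decide +kernel

theorem lev0_b31 : allB (fun r => Nat.ble lev0.size r || lev0.ok Cfsg.Agent.CosetCert.FiTwentyThree.data.N Cfsg.Agent.CosetCert.FiTwentyThree.data.look r) 8 7936 = true := by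
  decide +kernel

theorem lev0_b32 : allB (fun r => Nat.ble lev0.size r || lev0.ok Cfsg.Agent.CosetCert.FiTwentyThree.data.N Cfsg.Agent.CosetCert.FiTwentyThree.data.look r) 8 8192 = true := by
  decide +kernel

theorem lev0_b33 : allB (fun r => Nat.ble lev0.size r || lev0.ok Cfsg.Agent.CosetCert.FiTwentyThree.data.N Cfsg.Agent.CosetCert.FiTwentyThree.data.look r) 8 8448 = true := by
  decide +kernel

theorem lev0_b34 : allB (fun r => Nat.ble lev0.size r || lev0.ok Cfsg.Agent.CosetCert.FiTwentyThree.data.N Cfsg.Agent.CosetCert.FiTwentyThree.data.look r) 8 8704 = true := by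
  decide +kernel

theorem lev0_b35 : allB (fun r => Nat.ble lev0.size r || lev0.ok Cfsg.Agent.CosetCert.FiTwentyThree.data.N Cfsg.Agent.CosetCert.FiTwentyThree.data.look r) 8 8960 = true := by
  decide +kernel

theorem lev0_b36 : allB (fun r => Nat.ble lev0.size r || lev0.ok Cfsg.Agent.CosetCert.FiTwentyThree.data.N Cfsg.Agent.CosetCert.FiTwentyThree.data.look r) 8 9216 = true := by
  decide +kernel

theorem lev0_b37 : allB (fun r => Nat.ble lev0.size r || lev0.ok Cfsg.Agent.CosetCert.FiTwentyThree.data.N Cfsg.Agent.CosetCert.FiTwentyThree.data.look r) 8 9472 = true := by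
  decide +kernel

theorem lev0_b38 : allB (fun r => Nat.ble lev0.size r || lev0.ok Cfsg.Agent.CosetCert.FiTwentyThree.data.N Cfsg.Agent.CosetCert.FiTwentyThree.data.look r) 8 9728 = true := by
  decide +kernel

theorem lev0_b39 : allB (fun r => Nat.ble lev0.size r || lev0.ok Cfsg.Agent.CosetCert.FiTwentyThree.data.N Cfsg.Agent.CosetCert.FiTwentyThree.data.look r) 8 9984 = true := by
  decide +kernel

theorem lev0_b40 : allB (fun r => Nat.ble lev0.size r || lev0.ok Cfsg.Agent.CosetCert.FiTwentyThree.data.N Cfsg.Agent.CosetCert.FiTwentyThree.data.look r) 8 10240 = true := by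
  decide +kernel

theorem lev0_b41 : allB (fun r => Nat.ble lev0.size r || lev0.ok Cfsg.Agent.CosetCert.FiTwentyThree.data.N Cfsg.Agent.CosetCert.FiTwentyThree.data.look r) 8 10496 = true := by
  decide +kernel

theorem lev0_b42 : allB (fun r => Nat.ble lev0.size r || lev0.ok Cfsg.Agent.CosetCert.FiTwentyThree.data.N Cfsg.Agent.CosetCert.FiTwentyThree.data.look r) 8 10752 = true := by
  decide +kernel

theorem lev0_b43 : allB (fun r => Nat.ble lev0.size r || lev0.ok Cfsg.Agent.CosetCert.FiTwentyThree.data.N Cfsg.Agent.CosetCert.FiTwentyThree.data.look r) 8 11008 = true := by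
  decide +kernel

theorem lev0_b44 : allB (fun r => Nat.ble lev0.size r || lev0.ok Cfsg.Agent.CosetCert.FiTwentyThree.data.N Cfsg.Agent.CosetCert.FiTwentyThree.data.look r) 8 11264 = true := by
  decide +kernel

theorem lev0_b45 : allB (fun r => Nat.ble lev0.size r || lev0.ok Cfsg.Agent.CosetCert.FiTwentyThree.data.N Cfsg.Agent.CosetCert.FiTwentyThree.data.look r) 8 11520 = true := by
  decide +kernel

theorem lev0_b46 : allB (fun r => Nat.ble lev0.size r || lev0.ok Cfsg.Agent.CosetCert.FiTwentyThree.data.N Cfsg.Agent.CosetCert.FiTwentyThree.data.look r) 8 11776 = true := by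
  decide +kernel

theorem lev0_b47 : allB (fun r => Nat.ble lev0.size r || lev0.ok Cfsg.Agent.CosetCert.FiTwentyThree.data.N Cfsg.Agent.CosetCert.FiTwentyThree.data.look r) 8 12032 = true := by
  decide +kernel

theorem lev0_b48 : allB (fun r => Nat.ble lev0.size r || lev0.ok Cfsg.Agent.CosetCert.FiTwentyThree.data.N Cfsg.Agent.CosetCert.FiTwentyThree.data.look r) 8 12288 = true := by
  decide +kernel

theorem lev0_b49 : allB (fun r => Nat.ble lev0.size r || lev0.ok Cfsg.Agent.CosetCert.FiTwentyThree.data.N Cfsg.Agent.CosetCert.FiTwentyThree.data.look r) 8 12544 = true := by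
  decide +kernel

theorem lev0_b50 : allB (fun r => Nat.ble lev0.size r || lev0.ok Cfsg.Agent.CosetCert.FiTwentyThree.data.N Cfsg.Agent.CosetCert.FiTwentyThree.data.look r) 8 12800 = true := by
  decide +kernel

theorem lev0_b51 : allB (fun r => Nat.ble lev0.size r || lev0.ok Cfsg.Agent.CosetCert.FiTwentyThree.data.N Cfsg.Agent.CosetCert.FiTwentyThree.data.look r) 8 13056 = true := by
  decide +kernel

theorem lev0_b52 : allB (fun r => Nat.ble lev0.size r || lev0.ok Cfsg.Agent.CosetCert.FiTwentyThree.data.N Cfsg.Agent.CosetCert.FiTwentyThree.data.look r) 8 13312 = true := by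
  decide +kernel

theorem lev0_b53 : allB (fun r => Nat.ble lev0.size r || lev0.ok Cfsg.Agent.CosetCert.FiTwentyThree.data.N Cfsg.Agent.CosetCert.FiTwentyThree.data.look r) 8 13568 = true := by
  decide +kernel

theorem lev0_b54 : allB (fun r => Nat.ble lev0.size r || lev0.ok Cfsg.Agent.CosetCert.FiTwentyThree.data.N Cfsg.Agent.CosetCert.FiTwentyThree.data.look r) 8 13824 = true := by
  decide +kernel

theorem lev0_b55 : allB (fun r => Nat.ble lev0.size r || lev0.ok Cfsg.Agent.CosetCert.FiTwentyThree.data.N Cfsg.Agent.CosetCert.FiTwentyThree.data.look r) 8 14080 = true := by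
  decide +kernel

theorem lev0_b56 : allB (fun r => Nat.ble lev0.size r || lev0.ok Cfsg.Agent.CosetCert.FiTwentyThree.data.N Cfsg.Agent.CosetCert.FiTwentyThree.data.look r) 8 14336 = true := by
  decide +kernel

theorem lev0_b57 : allB (fun r => Nat.ble lev0.size r || lev0.ok Cfsg.Agent.CosetCert.FiTwentyThree.data.N Cfsg.Agent.CosetCert.FiTwentyThree.data.look r) 8 14592 = true := by
  decide +kernel

theorem lev0_b58 : allB (fun r => Nat.ble lev0.size r || lev0.ok Cfsg.Agent.CosetCert.FiTwentyThree.data.N Cfsg.Agent.CosetCert.FiTwentyThree.data.look r) 8 14848 = true := by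
  decide +kernel

theorem lev0_b59 : allB (fun r => Nat.ble lev0.size r || lev0.ok Cfsg.Agent.CosetCert.FiTwentyThree.data.N Cfsg.Agent.CosetCert.FiTwentyThree.data.look r) 8 15104 = true := by
  decide +kernel

theorem lev0_b60 : allB (fun r => Nat.ble lev0.size r || lev0.ok Cfsg.Agent.CosetCert.FiTwentyThree.data.N Cfsg.Agent.CosetCert.FiTwentyThree.data.look r) 8 15360 = true := by
  decide +kernel

theorem lev0_b61 : allB (fun r => Nat.ble lev0.size r || lev0.ok Cfsg.Agent.CosetCert.FiTwentyThree.data.N Cfsg.Agent.CosetCert.FiTwentyThree.data.look r) 8 15616 = true := by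
  decide +kernel

theorem lev0_b62 : allB (fun r => Nat.ble lev0.size r || lev0.ok Cfsg.Agent.CosetCert.FiTwentyThree.data.N Cfsg.Agent.CosetCert.FiTwentyThree.data.look r) 8 15872 = true := by
  decide +kernel

theorem lev0_b63 : allB (fun r => Nat.ble lev0.size r || lev0.ok Cfsg.Agent.CosetCert.FiTwentyThree.data.N Cfsg.Agent.CosetCert.FiTwentyThree.data.look r) 8 16128 = true := by
  decide +kernel

theorem lev0_b64 : allB (fun r => Nat.ble lev0.size r || lev0.ok Cfsg.Agent.CosetCert.FiTwentyThree.data.N Cfsg.Agent.CosetCert.FiTwentyThree.data.look r) 8 16384 = true := by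
  decide +kernel

theorem lev0_b65 : allB (fun r => Nat.ble lev0.size r || lev0.ok Cfsg.Agent.CosetCert.FiTwentyThree.data.N Cfsg.Agent.CosetCert.FiTwentyThree.data.look r) 8 16640 = true := by
  decide +kernel

theorem lev0_b66 : allB (fun r => Nat.ble lev0.size r || lev0.ok Cfsg.Agent.CosetCert.FiTwentyThree.data.N Cfsg.Agent.CosetCert.FiTwentyThree.data.look r) 8 16896 = true := by
  decide +kernel

theorem lev0_b67 : allB (fun r => Nat.ble lev0.size r || lev0.ok Cfsg.Agent.CosetCert.FiTwentyThree.data.N Cfsg.Agent.CosetCert.FiTwentyThree.data.look r) 8 17152 = true := by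
  decide +kernel

theorem lev0_b68 : allB (fun r => Nat.ble lev0.size r || lev0.ok Cfsg.Agent.CosetCert.FiTwentyThree.data.N Cfsg.Agent.CosetCert.FiTwentyThree.data.look r) 8 17408 = true := by
  decide +kernel

theorem lev0_b69 : allB (fun r => Nat.ble lev0.size r || lev0.ok Cfsg.Agent.CosetCert.FiTwentyThree.data.N Cfsg.Agent.CosetCert.FiTwentyThree.data.look r) 8 17664 = true := by
  decide +kernel

theorem lev0_b70 : allB (fun r => Nat.ble lev0.size r || lev0.ok Cfsg.Agent.CosetCert.FiTwentyThree.data.N Cfsg.Agent.CosetCert.FiTwentyThree.data.look r) 8 17920 = true := by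
  decide +kernel

theorem lev0_b71 : allB (fun r => Nat.ble lev0.size r || lev0.ok Cfsg.Agent.CosetCert.FiTwentyThree.data.N Cfsg.Agent.CosetCert.FiTwentyThree.data.look r) 8 18176 = true := by
  decide +kernel

theorem lev0_b72 : allB (fun r => Nat.ble lev0.size r || lev0.ok Cfsg.Agent.CosetCert.FiTwentyThree.data.N Cfsg.Agent.CosetCert.FiTwentyThree.data.look r) 8 18432 = true := by
  decide +kernel

theorem lev0_b73 : allB (fun r => Nat.ble lev0.size r || lev0.ok Cfsg.Agent.CosetCert.FiTwentyThree.data.N Cfsg.Agent.CosetCert.FiTwentyThree.data.look r) 8 18688 = true := by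
  decide +kernel

theorem lev0_b74 : allB (fun r => Nat.ble lev0.size r || lev0.ok Cfsg.Agent.CosetCert.FiTwentyThree.data.N Cfsg.Agent.CosetCert.FiTwentyThree.data.look r) 8 18944 = true := by
  decide +kernel

theorem lev0_b75 : allB (fun r => Nat.ble lev0.size r || lev0.ok Cfsg.Agent.CosetCert.FiTwentyThree.data.N Cfsg.Agent.CosetCert.FiTwentyThree.data.look r) 8 19200 = true := by
  decide +kernel

theorem lev0_b76 : allB (fun r => Nat.ble lev0.size r || lev0.ok Cfsg.Agent.CosetCert.FiTwentyThree.data.N Cfsg.Agent.CosetCert.FiTwentyThree.data.look r) 8 19456 = true := by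
  decide +kernel

theorem lev0_b77 : allB (fun r => Nat.ble lev0.size r || lev0.ok Cfsg.Agent.CosetCert.FiTwentyThree.data.N Cfsg.Agent.CosetCert.FiTwentyThree.data.look r) 8 19712 = true := by
  decide +kernel

theorem lev0_b78 : allB (fun r => Nat.ble lev0.size r || lev0.ok Cfsg.Agent.CosetCert.FiTwentyThree.data.N Cfsg.Agent.CosetCert.FiTwentyThree.data.look r) 8 19968 = true := by
  decide +kernel

theorem lev0_b79 : allB (fun r => Nat.ble lev0.size r || lev0.ok Cfsg.Agent.CosetCert.FiTwentyThree.data.N Cfsg.Agent.CosetCert.FiTwentyThree.data.look r) 8 20224 = true := by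
  decide +kernel

theorem lev0_b80 : allB (fun r => Nat.ble lev0.size r || lev0.ok Cfsg.Agent.CosetCert.FiTwentyThree.data.N Cfsg.Agent.CosetCert.FiTwentyThree.data.look r) 8 20480 = true := by
  decide +kernel

theorem lev0_b81 : allB (fun r => Nat.ble lev0.size r || lev0.ok Cfsg.Agent.CosetCert.FiTwentyThree.data.N Cfsg.Agent.CosetCert.FiTwentyThree.data.look r) 8 20736 = true := by
  decide +kernel

theorem lev0_b82 : allB (fun r => Nat.ble lev0.size r || lev0.ok Cfsg.Agent.CosetCert.FiTwentyThree.data.N Cfsg.Agent.CosetCert.FiTwentyThree.data.look r) 8 20992 = true := by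
  decide +kernel

theorem lev0_b83 : allB (fun r => Nat.ble lev0.size r || lev0.ok Cfsg.Agent.CosetCert.FiTwentyThree.data.N Cfsg.Agent.CosetCert.FiTwentyThree.data.look r) 8 21248 = true := by
  decide +kernel

theorem lev0_b84 : allB (fun r => Nat.ble lev0.size r || lev0.ok Cfsg.Agent.CosetCert.FiTwentyThree.data.N Cfsg.Agent.CosetCert.FiTwentyThree.data.look r) 8 21504 = true := by
  decide +kernel

theorem lev0_b85 : allB (fun r => Nat.ble lev0.size r || lev0.ok Cfsg.Agent.CosetCert.FiTwentyThree.data.N Cfsg.Agent.CosetCert.FiTwentyThree.data.look r) 8 21760 = true := by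
  decide +kernel

theorem lev0_b86 : allB (fun r => Nat.ble lev0.size r || lev0.ok Cfsg.Agent.CosetCert.FiTwentyThree.data.N Cfsg.Agent.CosetCert.FiTwentyThree.data.look r) 8 22016 = true := by
  decide +kernel

theorem lev0_b87 : allB (fun r => Nat.ble lev0.size r || lev0.ok Cfsg.Agent.CosetCert.FiTwentyThree.data.N Cfsg.Agent.CosetCert.FiTwentyThree.data.look r) 8 22272 = true := by
  decide +kernel

theorem lev0_b88 : allB (fun r => Nat.ble lev0.size r || lev0.ok Cfsg.Agent.CosetCert.FiTwentyThree.data.N Cfsg.Agent.CosetCert.FiTwentyThree.data.look r) 8 22528 = true := by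
  decide +kernel

theorem lev0_b89 : allB (fun r => Nat.ble lev0.size r || lev0.ok Cfsg.Agent.CosetCert.FiTwentyThree.data.N Cfsg.Agent.CosetCert.FiTwentyThree.data.look r) 8 22784 = true := by
  decide +kernel

theorem lev0_b90 : allB (fun r => Nat.ble lev0.size r || lev0.ok Cfsg.Agent.CosetCert.FiTwentyThree.data.N Cfsg.Agent.CosetCert.FiTwentyThree.data.look r) 8 23040 = true := by
  decide +kernel

theorem lev0_b91 : allB (fun r => Nat.ble lev0.size r || lev0.ok Cfsg.Agent.CosetCert.FiTwentyThree.data.N Cfsg.Agent.CosetCert.FiTwentyThree.data.look r) 8 23296 = true := by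
  decide +kernel

theorem lev0_b92 : allB (fun r => Nat.ble lev0.size r || lev0.ok Cfsg.Agent.CosetCert.FiTwentyThree.data.N Cfsg.Agent.CosetCert.FiTwentyThree.data.look r) 8 23552 = true := by
  decide +kernel

theorem lev0_b93 : allB (fun r => Nat.ble lev0.size r || lev0.ok Cfsg.Agent.CosetCert.FiTwentyThree.data.N Cfsg.Agent.CosetCert.FiTwentyThree.data.look r) 8 23808 = true := by
  decide +kernel

theorem lev0_b94 : allB (fun r => Nat.ble lev0.size r || lev0.ok Cfsg.Agent.CosetCert.FiTwentyThree.data.N Cfsg.Agent.CosetCert.FiTwentyThree.data.look r) 8 24064 = true := by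
  decide +kernel

theorem lev0_b95 : allB (fun r => Nat.ble lev0.size r || lev0.ok Cfsg.Agent.CosetCert.FiTwentyThree.data.N Cfsg.Agent.CosetCert.FiTwentyThree.data.look r) 8 24320 = true := by
  decide +kernel

theorem lev0_b96 : allB (fun r => Nat.ble lev0.size r || lev0.ok Cfsg.Agent.CosetCert.FiTwentyThree.data.N Cfsg.Agent.CosetCert.FiTwentyThree.data.look r) 8 24576 = true := by
  decide +kernel

theorem lev0_b97 : allB (fun r => Nat.ble lev0.size r || lev0.ok Cfsg.Agent.CosetCert.FiTwentyThree.data.N Cfsg.Agent.CosetCert.FiTwentyThree.data.look r) 8 24832 = true := by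
  decide +kernel

theorem lev0_b98 : allB (fun r => Nat.ble lev0.size r || lev0.ok Cfsg.Agent.CosetCert.FiTwentyThree.data.N Cfsg.Agent.CosetCert.FiTwentyThree.data.look r) 8 25088 = true := by
  decide +kernel

theorem lev0_b99 : allB (fun r => Nat.ble lev0.size r || lev0.ok Cfsg.Agent.CosetCert.FiTwentyThree.data.N Cfsg.Agent.CosetCert.FiTwentyThree.data.look r) 8 25344 = true := by
  decide +kernel

theorem lev0_b100 : allB (fun r => Nat.ble lev0.size r || lev0.ok Cfsg.Agent.CosetCert.FiTwentyThree.data.N Cfsg.Agent.CosetCert.FiTwentyThree.data.look r) 8 25600 = true := by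
  decide +kernel

theorem lev0_b101 : allB (fun r => Nat.ble lev0.size r || lev0.ok Cfsg.Agent.CosetCert.FiTwentyThree.data.N Cfsg.Agent.CosetCert.FiTwentyThree.data.look r) 8 25856 = true := by
  decide +kernel

theorem lev0_b102 : allB (fun r => Nat.ble lev0.size r || lev0.ok Cfsg.Agent.CosetCert.FiTwentyThree.data.N Cfsg.Agent.CosetCert.FiTwentyThree.data.look r) 8 26112 = true := by
  decide +kernel

theorem lev0_b103 : allB (fun r => Nat.ble lev0.size r || lev0.ok Cfsg.Agent.CosetCert.FiTwentyThree.data.N Cfsg.Agent.CosetCert.FiTwentyThree.data.look r) 8 26368 = true := by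
  decide +kernel

theorem lev0_b104 : allB (fun r => Nat.ble lev0.size r || lev0.ok Cfsg.Agent.CosetCert.FiTwentyThree.data.N Cfsg.Agent.CosetCert.FiTwentyThree.data.look r) 8 26624 = true := by
  decide +kernel

theorem lev0_b105 : allB (fun r => Nat.ble lev0.size r || lev0.ok Cfsg.Agent.CosetCert.FiTwentyThree.data.N Cfsg.Agent.CosetCert.FiTwentyThree.data.look r) 8 26880 = true := by
  decide +kernel

theorem lev0_b106 : allB (fun r => Nat.ble lev0.size r || lev0.ok Cfsg.Agent.CosetCert.FiTwentyThree.data.N Cfsg.Agent.CosetCert.FiTwentyThree.data.look r) 8 27136 = true := by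
  decide +kernel

theorem lev0_b107 : allB (fun r => Nat.ble lev0.size r || lev0.ok Cfsg.Agent.CosetCert.FiTwentyThree.data.N Cfsg.Agent.CosetCert.FiTwentyThree.data.look r) 8 27392 = true := by
  decide +kernel

theorem lev0_b108 : allB (fun r => Nat.ble lev0.size r || lev0.ok Cfsg.Agent.CosetCert.FiTwentyThree.data.N Cfsg.Agent.CosetCert.FiTwentyThree.data.look r) 8 27648 = true := by
  decide +kernel

theorem lev0_b109 : allB (fun r => Nat.ble lev0.size r || lev0.ok Cfsg.Agent.CosetCert.FiTwentyThree.data.N Cfsg.Agent.CosetCert.FiTwentyThree.data.look r) 8 27904 = true := by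
  decide +kernel

theorem lev0_b110 : allB (fun r => Nat.ble lev0.size r || lev0.ok Cfsg.Agent.CosetCert.FiTwentyThree.data.N Cfsg.Agent.CosetCert.FiTwentyThree.data.look r) 8 28160 = true := by
  decide +kernel

theorem lev0_b111 : allB (fun r => Nat.ble lev0.size r || lev0.ok Cfsg.Agent.CosetCert.FiTwentyThree.data.N Cfsg.Agent.CosetCert.FiTwentyThree.data.look r) 8 28416 = true := by
  decide +kernel

end Cfsg.Agent.CosetEnum.FiTwentyThree
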