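import Cfsg.Agent.CosetEnum.FiTwentyThree.SimpleDefs

/-! Machine-generated data and checks. -/

set_option maxRecDepth 100000
set_option Elab.async false

namespace Cfsg.Agent.CosetEnum.FiTwentyThree

open Cfsg.Agent.CosetCert

theorem lev0_b112 : allB (fun r => Nat.ble lev0.size r || lev0.ok Cfsg.Agent.CosetCert.FiTwentyThree.data.N Cfsg.Agent.CosetCert.FiTwentyThree.data.look r) 8 28672 = true := by
  decide +kernel

theorem lev0_b113 : allB (fun r => Nat.ble lev0.size r || lev0.ok Cfsg.Agent.CosetCert.FiTwentyThree.data.N Cfsg.Agent.CosetCert.FiTwentyThree.data.look r) 8 28928 = true := by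
  decide +kernel

theorem lev0_b114 : allB (fun r => Nat.ble lev0.size r || lev0.ok Cfsg.Agent.CosetCert.FiTwentyThree.data.N Cfsg.Agent.CosetCert.FiTwentyThree.data.look r) 8 29184 = true := by
  decide +kernel

theorem lev0_b115 : allB (fun r => Nat.ble lev0.size r || lev0.ok Cfsg.Agent.CosetCert.FiTwentyThree.data.N Cfsg.Agent.CosetCert.FiTwentyThree.data.look r) 8 29440 = true := by
  decide +kernel

theorem lev0_b116 : allB (fun r => Nat.ble lev0.size r || lev0.ok Cfsg.Agent.CosetCert.FiTwentyThree.data.N Cfsg.Agent.CosetCert.FiTwentyThree.data.look r) 8 29696 = true := by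
  decide +kernel

theorem lev0_b117 : allB (fun r => Nat.ble lev0.size r || lev0.ok Cfsg.Agent.CosetCert.FiTwentyThree.data.N Cfsg.Agent.CosetCert.FiTwentyThree.data.look r) 8 29952 = true := by
  decide +kernel

theorem lev0_b118 : allB (fun r => Nat.ble lev0.size r || lev0.ok Cfsg.Agent.CosetCert.FiTwentyThree.data.N Cfsg.Agent.CosetCert.FiTwentyThree.data.look r) 8 30208 = true := by
  decide +kernel

theorem lev0_b119 : allB (fun r => Nat.ble lev0.size r || lev0.ok Cfsg.Agent.CosetCert.FiTwentyThree.data.N Cfsg.Agent.CosetCert.FiTwentyThree.data.look r) 8 30464 = true := by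
  decide +kernel

theorem lev0_b120 : allB (fun r => Nat.ble lev0.size r || lev0.ok Cfsg.Agent.CosetCert.FiTwentyThree.data.N Cfsg.Agent.CosetCert.FiTwentyThree.data.look r) 8 30720 = true := by
  decide +kernel

theorem lev0_b121 : allB (fun r => Nat.ble lev0.size r || lev0.ok Cfsg.Agent.CosetCert.FiTwentyThree.data.N Cfsg.Agent.CosetCert.FiTwentyThree.data.look r) 8 30976 = true := by
  decide +kernel

theorem lev0_b122 : allB (fun r => Nat.ble lev0.size r || lev0.ok Cfsg.Agent.CosetCert.FiTwentyThree.data.N Cfsg.Agent.CosetCert.FiTwentyThree.data.look r) 8 31232 = true := by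
  decide +kernel

theorem lev0_b123 : allB (fun r => Nat.ble lev0.size r || lev0.ok Cfsg.Agent.CosetCert.FiTwentyThree.data.N Cfsg.Agent.CosetCert.FiTwentyThree.data.look r) 8 31488 = true := by
  decide +kernel

theorem lev1_b0 : allB (fun r => Nat.ble lev1.size r || lev1.ok Cfsg.Agent.CosetCert.FiTwentyThree.data.N Cfsg.Agent.CosetCert.FiTwentyThree.data.look r) 8 0 = true := by
  decide +kernel

theorem lev1_b1 : allB (fun r => Nat.ble lev1.size r || lev1.ok Cfsg.Agent.CosetCert.FiTwentyThree.data.N Cfsg.Agent.CosetCert.FiTwentyThree.data.look r) 8 256 = true := by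
  decide +kernel

theorem lev1_b2 : allB (fun r => Nat.ble lev1.size r || lev1.ok Cfsg.Agent.CosetCert.FiTwentyThree.data.N Cfsg.Agent.CosetCert.FiTwentyThree.data.look r) 8 512 = true := by
  decide +kernel

theorem lev1_b3 : allB (fun r => Nat.ble lev1.size r || lev1.ok Cfsg.Agent.CosetCert.FiTwentyThree.data.N Cfsg.Agent.CosetCert.FiTwentyThree.data.look r) 8 768 = true := by
  decide +kernel

theorem lev1_b4 : allB (fun r => Nat.ble lev1.size r || lev1.ok Cfsg.Agent.CosetCert.FiTwentyThree.data.N Cfsg.Agent.CosetCert.FiTwentyThree.data.look r) 8 1024 = true := by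
  decide +kernel

theorem lev1_b5 : allB (fun r => Nat.ble lev1.size r || lev1.ok Cfsg.Agent.CosetCert.FiTwentyThree.data.N Cfsg.Agent.CosetCert.FiTwentyThree.data.look r) 8 1280 = true := by
  decide +kernel

theorem lev1_b6 : allB (fun r => Nat.ble lev1.size r || lev1.ok Cfsg.Agent.CosetCert.FiTwentyThree.data.N Cfsg.Agent.CosetCert.FiTwentyThree.data.look r) 8 1536 = true := by
  decide +kernel

theorem lev1_b7 : allB (fun r => Nat.ble lev1.size r || lev1.ok Cfsg.Agent.CosetCert.FiTwentyThree.data.N Cfsg.Agent.CosetCert.FiTwentyThree.data.look r) 8 1792 = true := by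
  decide +kernel

theorem lev1_b8 : allB (fun r => Nat.ble lev1.size r || lev1.ok Cfsg.Agent.CosetCert.FiTwentyThree.data.N Cfsg.Agent.CosetCert.FiTwentyThree.data.look r) 8 2048 = true := by
  decide +kernel

theorem lev1_b9 : allB (fun r => Nat.ble lev1.size r || lev1.ok Cfsg.Agent.CosetCert.FiTwentyThree.data.N Cfsg.Agent.CosetCert.FiTwentyThree.data.look r) 8 2304 = true := by
  decide +kernel

theorem lev1_b10 : allB (fun r => Nat.ble lev1.size r || lev1.ok Cfsg.Agent.CosetCert.FiTwentyThree.data.N Cfsg.Agent.CosetCert.FiTwentyThree.data.look r) 8 2560 = true := by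
  decide +kernel

theorem lev1_b11 : allB (fun r => Nat.ble lev1.size r || lev1.ok Cfsg.Agent.CosetCert.FiTwentyThree.data.N Cfsg.Agent.CosetCert.FiTwentyThree.data.look r) 8 2816 = true := by
  decide +kernel

theorem lev1_b12 : allB (fun r => Nat.ble lev1.size r || lev1.ok Cfsg.Agent.CosetCert.FiTwentyThree.data.N Cfsg.Agent.CosetCert.FiTwentyThree.data.look r) 8 3072 = true := by
  decide +kernel

theorem lev1_b13 : allB (fun r => Nat.ble lev1.size r || lev1.ok Cfsg.Agent.CosetCert.FiTwentyThree.data.N Cfsg.Agent.CosetCert.FiTwentyThree.data.look r) 8 3328 = true := by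
  decide +kernel

theorem lev2_b0 : allB (fun r => Nat.ble lev2.size r || lev2.ok Cfsg.Agent.CosetCert.FiTwentyThree.data.N Cfsg.Agent.CosetCert.FiTwentyThree.data.look r) 8 0 = true := by
  decide +kernel

theorem lev2_b1 : allB (fun r => Nat.ble lev2.size r || lev2.ok Cfsg.Agent.CosetCert.FiTwentyThree.data.N Cfsg.Agent.CosetCert.FiTwentyThree.data.look r) 8 256 = true := by
  decide +kernel

theorem lev2_b2 : allB (fun r => Nat.ble lev2.size r || lev2.ok Cfsg.Agent.CosetCert.FiTwentyThree.data.N Cfsg.Agent.CosetCert.FiTwentyThree.data.look r) 8 512 = true := by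
  decide +kernel

theorem lev3_b0 : allB (fun r => Nat.ble lev3.size r || lev3.ok Cfsg.Agent.CosetCert.FiTwentyThree.data.N Cfsg.Agent.CosetCert.FiTwentyThree.data.look r) 8 0 = true := by
  decide +kernel

theorem lev3_b1 : allB (fun r => Nat.ble lev3.size r || lev3.ok Cfsg.Agent.CosetCert.FiTwentyThree.data.N Cfsg.Agent.CosetCert.FiTwentyThree.data.look r) 8 256 = true := by
  decide +kernel

theorem lev3_b2 : allB (fun r => Nat.ble lev3.size r || lev3.ok Cfsg.Agent.CosetCert.FiTwentyThree.data.N Cfsg.Agent.CosetCert.FiTwentyThree.data.look r) 8 512 = true := by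
  decide +kernel

theorem lev3_b3 : allB (fun r => Nat.ble lev3.size r || lev3.ok Cfsg.Agent.CosetCert.FiTwentyThree.data.N Cfsg.Agent.CosetCert.FiTwentyThree.data.look r) 8 768 = true := by
  decide +kernel

theorem lev3_b4 : allB (fun r => Nat.ble lev3.size r || lev3.ok Cfsg.Agent.CosetCert.FiTwentyThree.data.N Cfsg.Agent.CosetCert.FiTwentyThree.data.look r) 8 1024 = true := by
  decide +kernel

theorem lev3_b5 : allB (fun r => Nat.ble lev3.size r || lev3.ok Cfsg.Agent.CosetCert.FiTwentyThree.data.N Cfsg.Agent.CosetCert.FiTwentyThree.data.look r) 8 1280 = true := by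
  decide +kernel

theorem lev3_b6 : allB (fun r => Nat.ble lev3.size r || lev3.ok Cfsg.Agent.CosetCert.FiTwentyThree.data.N Cfsg.Agent.CosetCert.FiTwentyThree.data.look r) 8 1536 = true := by
  decide +kernel

theorem lev3_b7 : allB (fun r => Nat.ble lev3.size r || lev3.ok Cfsg.Agent.CosetCert.FiTwentyThree.data.N Cfsg.Agent.CosetCert.FiTwentyThree.data.look r) 8 1792 = true := by
  decide +kernel

theorem lev3_b8 : allB (fun r => Nat.ble lev3.size r || lev3.ok Cfsg.Agent.CosetCert.FiTwentyThree.data.N Cfsg.Agent.CosetCert.FiTwentyThree.data.look r) 8 2048 = true := by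
  decide +kernel

theorem lev3_b9 : allB (fun r => Nat.ble lev3.size r || lev3.ok Cfsg.Agent.CosetCert.FiTwentyThree.data.N Cfsg.Agent.CosetCert.FiTwentyThree.data.look r) 8 2304 = true := by
  decide +kernel

theorem lev3_b10 : allB (fun r => Nat.ble lev3.size r || lev3.ok Cfsg.Agent.CosetCert.FiTwentyThree.data.N Cfsg.Agent.CosetCert.FiTwentyThree.data.look r) 8 2560 = true := by
  decide +kernel

theorem lev3_b11 : allB (fun r => Nat.ble lev3.size r || lev3.ok Cfsg.Agent.CosetCert.FiTwentyThree.data.N Cfsg.Agent.CosetCert.FiTwentyThree.data.look r) 8 2816 = true := by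
  decide +kernel

theorem lev3_b12 : allB (fun r => Nat.ble lev3.size r || lev3.ok Cfsg.Agent.CosetCert.FiTwentyThree.data.N Cfsg.Agent.CosetCert.FiTwentyThree.data.look r) 8 3072 = true := by
  decide +kernel

end Cfsg.Agent.CosetEnum.FiTwentyThree
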