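import Cfsg.Agent.CosetEnum.FiTwentyThree.SimpleDefs

/-! Machine-generated data and checks. -/

set_option maxRecDepth 100000
set_option Elab.async false

namespace Cfsg.Agent.CosetEnum.FiTwentyThree

open Cfsg.Agent.CosetCert

theorem lev3_b13 : allB (fun r => Nat.ble lev3.size r || lev3.ok Cfsg.Agent.CosetCert.FiTwentyThree.data.N Cfsg.Agent.CosetCert.FiTwentyThree.data.look r) 8 3328 = true := by
  decide +kernel

theorem lev3_b14 : allB (fun r => Nat.ble lev3.size r || lev3.ok Cfsg.Agent.CosetCert.FiTwentyThree.data.N Cfsg.Agent.CosetCert.FiTwentyThree.data.look r) 8 3584 = true := by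
  decide +kernel

theorem lev3_b15 : allB (fun r => Nat.ble lev3.size r || lev3.ok Cfsg.Agent.CosetCert.FiTwentyThree.data.N Cfsg.Agent.CosetCert.FiTwentyThree.data.look r) 8 3840 = true := by
  decide +kernel

theorem lev3_b16 : allB (fun r => Nat.ble lev3.size r || lev3.ok Cfsg.Agent.CosetCert.FiTwentyThree.data.N Cfsg.Agent.CosetCert.FiTwentyThree.data.look r) 8 4096 = true := by
  decide +kernel

theorem lev3_b17 : allB (fun r => Nat.ble lev3.size r || lev3.ok Cfsg.Agent.CosetCert.FiTwentyThree.data.N Cfsg.Agent.CosetCert.FiTwentyThree.data.look r) 8 4352 = true := by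
  decide +kernel

theorem lev3_b18 : allB (fun r => Nat.ble lev3.size r || lev3.ok Cfsg.Agent.CosetCert.FiTwentyThree.data.N Cfsg.Agent.CosetCert.FiTwentyThree.data.look r) 8 4608 = true := by
  decide +kernel

theorem lev3_b19 : allB (fun r => Nat.ble lev3.size r || lev3.ok Cfsg.Agent.CosetCert.FiTwentyThree.data.N Cfsg.Agent.CosetCert.FiTwentyThree.data.look r) 8 4864 = true := by
  decide +kernel

theorem lev3_b20 : allB (fun r => Nat.ble lev3.size r || lev3.ok Cfsg.Agent.CosetCert.FiTwentyThree.data.N Cfsg.Agent.CosetCert.FiTwentyThree.data.look r) 8 5120 = true := by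
  decide +kernel

theorem lev3_b21 : allB (fun r => Nat.ble lev3.size r || lev3.ok Cfsg.Agent.CosetCert.FiTwentyThree.data.N Cfsg.Agent.CosetCert.FiTwentyThree.data.look r) 8 5376 = true := by
  decide +kernel

theorem lev3_b22 : allB (fun r => Nat.ble lev3.size r || lev3.ok Cfsg.Agent.CosetCert.FiTwentyThree.data.N Cfsg.Agent.CosetCert.FiTwentyThree.data.look r) 8 5632 = true := by
  decide +kernel

theorem lev3_b23 : allB (fun r => Nat.ble lev3.size r || lev3.ok Cfsg.Agent.CosetCert.FiTwentyThree.data.N Cfsg.Agent.CosetCert.FiTwentyThree.data.look r) 8 5888 = true := by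
  decide +kernel

theorem lev3_b24 : allB (fun r => Nat.ble lev3.size r || lev3.ok Cfsg.Agent.CosetCert.FiTwentyThree.data.N Cfsg.Agent.CosetCert.FiTwentyThree.data.look r) 8 6144 = true := by
  decide +kernel

theorem lev3_b25 : allB (fun r => Nat.ble lev3.size r || lev3.ok Cfsg.Agent.CosetCert.FiTwentyThree.data.N Cfsg.Agent.CosetCert.FiTwentyThree.data.look r) 8 6400 = true := by
  decide +kernel

theorem lev3_b26 : allB (fun r => Nat.ble lev3.size r || lev3.ok Cfsg.Agent.CosetCert.FiTwentyThree.data.N Cfsg.Agent.CosetCert.FiTwentyThree.data.look r) 8 6656 = true := by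
  decide +kernel

theorem lev3_b27 : allB (fun r => Nat.ble lev3.size r || lev3.ok Cfsg.Agent.CosetCert.FiTwentyThree.data.N Cfsg.Agent.CosetCert.FiTwentyThree.data.look r) 8 6912 = true := by
  decide +kernel

theorem lev3_b28 : allB (fun r => Nat.ble lev3.size r || lev3.ok Cfsg.Agent.CosetCert.FiTwentyThree.data.N Cfsg.Agent.CosetCert.FiTwentyThree.data.look r) 8 7168 = true := by
  decide +kernel

theorem lev3_b29 : allB (fun r => Nat.ble lev3.size r || lev3.ok Cfsg.Agent.CosetCert.FiTwentyThree.data.N Cfsg.Agent.CosetCert.FiTwentyThree.data.look r) 8 7424 = true := by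
  decide +kernel

theorem lev3_b30 : allB (fun r => Nat.ble lev3.size r || lev3.ok Cfsg.Agent.CosetCert.FiTwentyThree.data.N Cfsg.Agent.CosetCert.FiTwentyThree.data.look r) 8 7680 = true := by
  decide +kernel

theorem lev3_b31 : allB (fun r => Nat.ble lev3.size r || lev3.ok Cfsg.Agent.CosetCert.FiTwentyThree.data.N Cfsg.Agent.CosetCert.FiTwentyThree.data.look r) 8 7936 = true := by
  decide +kernel

end Cfsg.Agent.CosetEnum.FiTwentyThree
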