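import Cfsg.Agent.CosetEnum.FiTwentyThree.SimpleDefs

/-! Machine-generated data and checks. -/

set_option maxRecDepth 100000
set_option Elab.async false

namespace Cfsg.Agent.CosetEnum.FiTwentyThree

open Cfsg.Agent.CosetCert

theorem lev3_b32 : allB (fun r => Nat.ble lev3.size r || lev3.ok Cfsg.Agent.CosetCert.FiTwentyThree.data.N Cfsg.Agent.CosetCert.FiTwentyThree.data.look r) 8 8192 = true := by
  decide +kernel

theorem lev3_b33 : allB (fun r => Nat.ble lev3.size r || lev3.ok Cfsg.Agent.CosetCert.FiTwentyThree.data.N Cfsg.Agent.CosetCert.FiTwentyThree.data.look r) 8 8448 = true := by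
  decide +kernel

theorem lev3_b34 : allB (fun r => Nat.ble lev3.size r || lev3.ok Cfsg.Agent.CosetCert.FiTwentyThree.data.N Cfsg.Agent.CosetCert.FiTwentyThree.data.look r) 8 8704 = true := by
  decide +kernel

theorem lev3_b35 : allB (fun r => Nat.ble lev3.size r || lev3.ok Cfsg.Agent.CosetCert.FiTwentyThree.data.N Cfsg.Agent.CosetCert.FiTwentyThree.data.look r) 8 8960 = true := by
  decide +kernel

theorem lev3_b36 : allB (fun r => Nat.ble lev3.size r || lev3.ok Cfsg.Agent.CosetCert.FiTwentyThree.data.N Cfsg.Agent.CosetCert.FiTwentyThree.data.look r) 8 9216 = true := by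
  decide +kernel

theorem lev3_b37 : allB (fun r => Nat.ble lev3.size r || lev3.ok Cfsg.Agent.CosetCert.FiTwentyThree.data.N Cfsg.Agent.CosetCert.FiTwentyThree.data.look r) 8 9472 = true := by
  decide +kernel

theorem lev3_b38 : allB (fun r => Nat.ble lev3.size r || lev3.ok Cfsg.Agent.CosetCert.FiTwentyThree.data.N Cfsg.Agent.CosetCert.FiTwentyThree.data.look r) 8 9728 = true := by
  decide +kernel

theorem lev3_b39 : allB (fun r => Nat.ble lev3.size r || lev3.ok Cfsg.Agent.CosetCert.FiTwentyThree.data.N Cfsg.Agent.CosetCert.FiTwentyThree.data.look r) 8 9984 = true := by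
  decide +kernel

theorem lev3_b40 : allB (fun r => Nat.ble lev3.size r || lev3.ok Cfsg.Agent.CosetCert.FiTwentyThree.data.N Cfsg.Agent.CosetCert.FiTwentyThree.data.look r) 8 10240 = true := by
  decide +kernel

theorem lev3_b41 : allB (fun r => Nat.ble lev3.size r || lev3.ok Cfsg.Agent.CosetCert.FiTwentyThree.data.N Cfsg.Agent.CosetCert.FiTwentyThree.data.look r) 8 10496 = true := by
  decide +kernel

theorem lev3_b42 : allB (fun r => Nat.ble lev3.size r || lev3.ok Cfsg.Agent.CosetCert.FiTwentyThree.data.N Cfsg.Agent.CosetCert.FiTwentyThree.data.look r) 8 10752 = true := by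
  decide +kernel

theorem lev3_b43 : allB (fun r => Nat.ble lev3.size r || lev3.ok Cfsg.Agent.CosetCert.FiTwentyThree.data.N Cfsg.Agent.CosetCert.FiTwentyThree.data.look r) 8 11008 = true := by
  decide +kernel

theorem lev3_b44 : allB (fun r => Nat.ble lev3.size r || lev3.ok Cfsg.Agent.CosetCert.FiTwentyThree.data.N Cfsg.Agent.CosetCert.FiTwentyThree.data.look r) 8 11264 = true := by
  decide +kernel

theorem lev3_b45 : allB (fun r => Nat.ble lev3.size r || lev3.ok Cfsg.Agent.CosetCert.FiTwentyThree.data.N Cfsg.Agent.CosetCert.FiTwentyThree.data.look r) 8 11520 = true := by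
  decide +kernel

theorem lev3_b46 : allB (fun r => Nat.ble lev3.size r || lev3.ok Cfsg.Agent.CosetCert.FiTwentyThree.data.N Cfsg.Agent.CosetCert.FiTwentyThree.data.look r) 8 11776 = true := by
  decide +kernel

theorem lev3_b47 : allB (fun r => Nat.ble lev3.size r || lev3.ok Cfsg.Agent.CosetCert.FiTwentyThree.data.N Cfsg.Agent.CosetCert.FiTwentyThree.data.look r) 8 12032 = true := by
  decide +kernel

theorem lev3_b48 : allB (fun r => Nat.ble lev3.size r || lev3.ok Cfsg.Agent.CosetCert.FiTwentyThree.data.N Cfsg.Agent.CosetCert.FiTwentyThree.data.look r) 8 12288 = true := by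
  decide +kernel

theorem lev3_b49 : allB (fun r => Nat.ble lev3.size r || lev3.ok Cfsg.Agent.CosetCert.FiTwentyThree.data.N Cfsg.Agent.CosetCert.FiTwentyThree.data.look r) 8 12544 = true := by
  decide +kernel

theorem lev3_b50 : allB (fun r => Nat.ble lev3.size r || lev3.ok Cfsg.Agent.CosetCert.FiTwentyThree.data.N Cfsg.Agent.CosetCert.FiTwentyThree.data.look r) 8 12800 = true := by
  decide +kernel

end Cfsg.Agent.CosetEnum.FiTwentyThree
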