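import Cfsg.Agent.CosetCert.FiTwentyThree.Main
import Cfsg.Agent.CosetEnum.FiTwentyThree.SimpleWit0
import Cfsg.Agent.CosetEnum.FiTwentyThree.SimpleWit1
import Cfsg.Agent.CosetEnum.FiTwentyThree.SimpleWit2
import Cfsg.Agent.CosetEnum.FiTwentyThree.SimpleWit3
import Cfsg.Agent.CosetEnum.FiTwentyThree.SimpleLev0
import Cfsg.Agent.CosetEnum.FiTwentyThree.SimpleLev1
import Cfsg.Agent.CosetEnum.FiTwentyThree.SimpleLev2
import Cfsg.Agent.CosetEnum.FiTwentyThree.SimpleLev3
import Cfsg.Agent.CosetEnum.FiTwentyThree.SimpleLev4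
import Cfsg.Agent.CosetEnum.FiTwentyThree.SimpleLev5
import Cfsg.Agent.CosetEnum.FiTwentyThree.SimpleLev6

/-! Machine-generated data and checks. -/

set_option maxRecDepth 100000
set_option Elab.async false

namespace Cfsg.Agent.CosetEnum.FiTwentyThree

open Cfsg.Agent.CosetCert

theorem lev0_ok : ∀ r < lev0.size, lev0.ok Cfsg.Agent.CosetCert.FiTwentyThree.data.N Cfsg.Agent.CosetCert.FiTwentyThree.data.look r = true := fun r hr =>
  ((below_step (f := fun r => Nat.ble lev0.size r || lev0.ok Cfsg.Agent.CosetCert.FiTwentyThree.data.N Cfsg.Agent.CosetCert.FiTwentyThree.data.look r) (below_step (f := fun r => Nat.ble lev0.size r || lev0.ok Cfsg.Agent.CosetCert.FiTwentyThree.data.N Cfsg.Agent.CosetCert.FiTwentyThree.data.look r) (below_step (f := fun r => Nat.ble lev0.size r || lev0.ok Cfsg.Agent.CosetCert.FiTwentyThree.data.N Cfsg.Agent.CosetCert.FiTwentyThree.data.look r) (below_step (f := fun r => Nat.ble lev0.size r || lev0.ok Cfsg.Agent.CosetCert.FiTwentyThree.data.N Cfsg.Agent.CosetCert.FiTwentyThree.data.look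 r) (below_step (f := fun r => Nat.ble lev0.size r || lev0.ok Cfsg.Agent.CosetCert.FiTwentyThree.data.N Cfsg.Agent.CosetCert.FiTwentyThree.data.look r) (below_step (f := fun r => Nat.ble lev0.size r || lev0.ok Cfsg.Agent.CosetCert.FiTwentyThree.data.N Cfsg.Agent.CosetCert.FiTwentyThree.data.look r) (below_step (f := fun r => Nat.ble lev0.size r || lev0.ok Cfsg.Agent.CosetCert.FiTwentyThree.data.N Cfsg.Agent.CosetCert.FiTwentyThree.data.look r) (below_step (f := fun r => Nat.ble lev0.size r || lev0.ok Cfsg.Agent.CosetCert.FiTwentyThree.data.N Cfsg.Agent.CosetCert.FiTwentyThree.data.look r) (below_step (f := fun r => Nat.ble lev0.size r || lev0.ok Cfsg.Agent.CosetCert.FiTwentyThree.data.N Cfsg.Agent.CosetCert.FiTwentyThree.data.look r) (below_step (f := fun r => Nat.ble lev0.size r || lev0.ok Cfsg.Agent.CosetCert.FiTwentyThree.data.N Cfsg.Agent.CosetCert.FiTwentyThree.data.look r) (below_step (f := fun r => Nat.ble lev0.size r || lev0.ok Cfsg.Agent.CosetCert.FiTwentyThree.data.N Cfsg.Agent.CosetCert.FiTwentyThree.data.look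 r) (below_step (f := fun r => Nat.ble lev0.size r || lev0.ok Cfsg.Agent.CosetCert.FiTwentyThree.data.N Cfsg.Agent.CosetCert.FiTwentyThree.data.look r) (below_step (f := fun r => Nat.ble lev0.size r || lev0.ok Cfsg.Agent.CosetCert.FiTwentyThree.data.N Cfsg.Agent.CosetCert.FiTwentyThree.data.look r) (below_step (f := fun r => Nat.ble lev0.size r || lev0.ok Cfsg.Agent.CosetCert.FiTwentyThree.data.N Cfsg.Agent.CosetCert.FiTwentyThree.data.look r) (below_step (f := fun r => Nat.ble lev0.size r || lev0.ok Cfsg.Agent.CosetCert.FiTwentyThree.data.N Cfsg.Agent.CosetCert.FiTwentyThree.data.look r) (below_step (f := fun r => Nat.ble lev0.size r || lev0.ok Cfsg.Agent.CosetCert.FiTwentyThree.data.N Cfsg.Agent.CosetCert.FiTwentyThree.data.look r) (below_step (f := fun r => Nat.ble lev0.size r || lev0.ok Cfsg.Agent.CosetCert.FiTwentyThree.data.N Cfsg.Agent.CosetCert.FiTwentyThree.data.look r) (below_step (f := fun r => Nat.ble lev0.size r || lev0.ok Cfsg.Agent.CosetCert.FiTwentyThree.data.N Cfsg.Agent.CosetCert.FiTwentyThree.data.look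 r) (below_step (f := fun r => Nat.ble lev0.size r || lev0.ok Cfsg.Agent.CosetCert.FiTwentyThree.data.N Cfsg.Agent.CosetCert.FiTwentyThree.data.look r) (below_step (f := fun r => Nat.ble lev0.size r || lev0.ok Cfsg.Agent.CosetCert.FiTwentyThree.data.N Cfsg.Agent.CosetCert.FiTwentyThree.data.look r) (below_step (f := fun r => Nat.ble lev0.size r || lev0.ok Cfsg.Agent.CosetCert.FiTwentyThree.data.N Cfsg.Agent.CosetCert.FiTwentyThree.data.look r) (below_step (f := fun r => Nat.ble lev0.size r || lev0.ok Cfsg.Agent.CosetCert.FiTwentyThree.data.N Cfsg.Agent.CosetCert.FiTwentyThree.data.look r) (below_step (f := fun r => Nat.ble lev0.size r || lev0.ok Cfsg.Agent.CosetCert.FiTwentyThree.data.N Cfsg.Agent.CosetCert.FiTwentyThree.data.look r) (below_step (f := fun r => Nat.ble lev0.size r || lev0.ok Cfsg.Agent.CosetCert.FiTwentyThree.data.N Cfsg.Agent.CosetCert.FiTwentyThree.data.look r) (below_step (f := fun r => Nat.ble lev0.size r || lev0.ok Cfsg.Agent.CosetCert.FiTwentyThree.data.N Cfsg.Agent.CosetCert.FiTwentyThree.data.look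 r) (below_step (f := fun r => Nat.ble lev0.size r || lev0.ok Cfsg.Agent.CosetCert.FiTwentyThree.data.N Cfsg.Agent.CosetCert.FiTwentyThree.data.look r) (below_step (f := fun r => Nat.ble lev0.size r || lev0.ok Cfsg.Agent.CosetCert.FiTwentyThree.data.N Cfsg.Agent.CosetCert.FiTwentyThree.data.look r) (below_step (f := fun r => Nat.ble lev0.size r || lev0.ok Cfsg.Agent.CosetCert.FiTwentyThree.data.N Cfsg.Agent.CosetCert.FiTwentyThree.data.look r) (below_step (f := fun r => Nat.ble lev0.size r || lev0.ok Cfsg.Agent.CosetCert.FiTwentyThree.data.N Cfsg.Agent.CosetCert.FiTwentyThree.data.look r) (below_step (f := fun r => Nat.ble lev0.size r || lev0.ok Cfsg.Agent.CosetCert.FiTwentyThree.data.N Cfsg.Agent.CosetCert.FiTwentyThree.data.look r) (below_step (f := fun r => Nat.ble lev0.size r || lev0.ok Cfsg.Agent.CosetCert.FiTwentyThree.data.N Cfsg.Agent.CosetCert.FiTwentyThree.data.look r) (below_step (f := fun r => Nat.ble lev0.size r || lev0.ok Cfsg.Agent.CosetCert.FiTwentyThree.data.N Cfsg.Agent.CosetCert.FiTwentyThree.data.look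 r) (below_step (f := fun r => Nat.ble lev0.size r || lev0.ok Cfsg.Agent.CosetCert.FiTwentyThree.data.N Cfsg.Agent.CosetCert.FiTwentyThree.data.look r) (below_step (f := fun r => Nat.ble lev0.size r || lev0.ok Cfsg.Agent.CosetCert.FiTwentyThree.data.N Cfsg.Agent.CosetCert.FiTwentyThree.data.look r) (below_step (f := fun r => Nat.ble lev0.size r || lev0.ok Cfsg.Agent.CosetCert.FiTwentyThree.data.N Cfsg.Agent.CosetCert.FiTwentyThree.data.look r) (below_step (f := fun r => Nat.ble lev0.size r || lev0.ok Cfsg.Agent.CosetCert.FiTwentyThree.data.N Cfsg.Agent.CosetCert.FiTwentyThree.data.look r) (below_step (f := fun r => Nat.ble lev0.size r || lev0.ok Cfsg.Agent.CosetCert.FiTwentyThree.data.N Cfsg.Agent.CosetCert.FiTwentyThree.data.look r) (below_step (f := fun r => Nat.ble lev0.size r || lev0.ok Cfsg.Agent.CosetCert.FiTwentyThree.data.N Cfsg.Agent.CosetCert.FiTwentyThree.data.look r) (below_step (f := fun r => Nat.ble lev0.size r || lev0.ok Cfsg.Agent.CosetCert.FiTwentyThree.data.N Cfsg.Agent.CosetCert.FiTwentyThree.data.look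 r) (below_step (f := fun r => Nat.ble lev0.size r || lev0.ok Cfsg.Agent.CosetCert.FiTwentyThree.data.N Cfsg.Agent.CosetCert.FiTwentyThree.data.look r) (below_step (f := fun r => Nat.ble lev0.size r || lev0.ok Cfsg.Agent.CosetCert.FiTwentyThree.data.N Cfsg.Agent.CosetCert.FiTwentyThree.data.look r) (below_step (f := fun r => Nat.ble lev0.size r || lev0.ok Cfsg.Agent.CosetCert.FiTwentyThree.data.N Cfsg.Agent.CosetCert.FiTwentyThree.data.look r) (below_step (f := fun r => Nat.ble lev0.size r || lev0.ok Cfsg.Agent.CosetCert.FiTwentyThree.data.N Cfsg.Agent.CosetCert.FiTwentyThree.data.look r) (below_step (f := fun r => Nat.ble lev0.size r || lev0.ok Cfsg.Agent.CosetCert.FiTwentyThree.data.N Cfsg.Agent.CosetCert.FiTwentyThree.data.look r) (below_step (f := fun r => Nat.ble lev0.size r || lev0.ok Cfsg.Agent.CosetCert.FiTwentyThree.data.N Cfsg.Agent.CosetCert.FiTwentyThree.data.look r) (below_step (f := fun r => Nat.ble lev0.size r || lev0.ok Cfsg.Agent.CosetCert.FiTwentyThree.data.N Cfsg.Agent.CosetCert.FiTwentyThree.data.look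 r) (below_step (f := fun r => Nat.ble lev0.size r || lev0.ok Cfsg.Agent.CosetCert.FiTwentyThree.data.N Cfsg.Agent.CosetCert.FiTwentyThree.data.look r) (below_step (f := fun r => Nat.ble lev0.size r || lev0.ok Cfsg.Agent.CosetCert.FiTwentyThree.data.N Cfsg.Agent.CosetCert.FiTwentyThree.data.look r) (below_step (f := fun r => Nat.ble lev0.size r || lev0.ok Cfsg.Agent.CosetCert.FiTwentyThree.data.N Cfsg.Agent.CosetCert.FiTwentyThree.data.look r) (below_step (f := fun r => Nat.ble lev0.size r || lev0.ok Cfsg.Agent.CosetCert.FiTwentyThree.data.N Cfsg.Agent.CosetCert.FiTwentyThree.data.look r) (below_step (f := fun r => Nat.ble lev0.size r || lev0.ok Cfsg.Agent.CosetCert.FiTwentyThree.data.N Cfsg.Agent.CosetCert.FiTwentyThree.data.look r) (below_step (f := fun r => Nat.ble lev0.size r || lev0.ok Cfsg.Agent.CosetCert.FiTwentyThree.data.N Cfsg.Agent.CosetCert.FiTwentyThree.data.look r) (below_step (f := fun r => Nat.ble lev0.size r || lev0.ok Cfsg.Agent.CosetCert.FiTwentyThree.data.N Cfsg.Agent.CosetCert.FiTwentyThree.data.look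 r) (below_step (f := fun r => Nat.ble lev0.size r || lev0.ok Cfsg.Agent.CosetCert.FiTwentyThree.data.N Cfsg.Agent.CosetCert.FiTwentyThree.data.look r) (below_step (f := fun r => Nat.ble lev0.size r || lev0.ok Cfsg.Agent.CosetCert.FiTwentyThree.data.N Cfsg.Agent.CosetCert.FiTwentyThree.data.look r) (below_step (f := fun r => Nat.ble lev0.size r || lev0.ok Cfsg.Agent.CosetCert.FiTwentyThree.data.N Cfsg.Agent.CosetCert.FiTwentyThree.data.look r) (below_step (f := fun r => Nat.ble lev0.size r || lev0.ok Cfsg.Agent.CosetCert.FiTwentyThree.data.N Cfsg.Agent.CosetCert.FiTwentyThree.data.look r) (below_step (f := fun r => Nat.ble lev0.size r || lev0.ok Cfsg.Agent.CosetCert.FiTwentyThree.data.N Cfsg.Agent.CosetCert.FiTwentyThree.data.look r) (below_step (f := fun r => Nat.ble lev0.size r || lev0.ok Cfsg.Agent.CosetCert.FiTwentyThree.data.N Cfsg.Agent.CosetCert.FiTwentyThree.data.look r) (below_step (f := fun r => Nat.ble lev0.size r || lev0.ok Cfsg.Agent.CosetCert.FiTwentyThree.data.N Cfsg.Agent.CosetCert.FiTwentyThree.data.look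 r) (below_step (f := fun r => Nat.ble lev0.size r || lev0.ok Cfsg.Agent.CosetCert.FiTwentyThree.data.N Cfsg.Agent.CosetCert.FiTwentyThree.data.look r) (below_step (f := fun r => Nat.ble lev0.size r || lev0.ok Cfsg.Agent.CosetCert.FiTwentyThree.data.N Cfsg.Agent.CosetCert.FiTwentyThree.data.look r) (below_step (f := fun r => Nat.ble lev0.size r || lev0.ok Cfsg.Agent.CosetCert.FiTwentyThree.data.N Cfsg.Agent.CosetCert.FiTwentyThree.data.look r) (below_step (f := fun r => Nat.ble lev0.size r || lev0.ok Cfsg.Agent.CosetCert.FiTwentyThree.data.N Cfsg.Agent.CosetCert.FiTwentyThree.data.look r) (below_step (f := fun r => Nat.ble lev0.size r || lev0.ok Cfsg.Agent.CosetCert.FiTwentyThree.data.N Cfsg.Agent.CosetCert.FiTwentyThree.data.look r) (below_step (f := fun r => Nat.ble lev0.size r || lev0.ok Cfsg.Agent.CosetCert.FiTwentyThree.data.N Cfsg.Agent.CosetCert.FiTwentyThree.data.look r) (below_step (f := fun r => Nat.ble lev0.size r || lev0.ok Cfsg.Agent.CosetCert.FiTwentyThree.data.N Cfsg.Agent.CosetCert.FiTwentyThree.data.look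 r) (below_step (f := fun r => Nat.ble lev0.size r || lev0.ok Cfsg.Agent.CosetCert.FiTwentyThree.data.N Cfsg.Agent.CosetCert.FiTwentyThree.data.look r) (below_step (f := fun r => Nat.ble lev0.size r || lev0.ok Cfsg.Agent.CosetCert.FiTwentyThree.data.N Cfsg.Agent.CosetCert.FiTwentyThree.data.look r) (below_step (f := fun r => Nat.ble lev0.size r || lev0.ok Cfsg.Agent.CosetCert.FiTwentyThree.data.N Cfsg.Agent.CosetCert.FiTwentyThree.data.look r) (below_step (f := fun r => Nat.ble lev0.size r || lev0.ok Cfsg.Agent.CosetCert.FiTwentyThree.data.N Cfsg.Agent.CosetCert.FiTwentyThree.data.look r) (below_step (f := fun r => Nat.ble lev0.size r || lev0.ok Cfsg.Agent.CosetCert.FiTwentyThree.data.N Cfsg.Agent.CosetCert.FiTwentyThree.data.look r) (below_step (f := fun r => Nat.ble lev0.size r || lev0.ok Cfsg.Agent.CosetCert.FiTwentyThree.data.N Cfsg.Agent.CosetCert.FiTwentyThree.data.look r) (below_step (f := fun r => Nat.ble lev0.size r || lev0.ok Cfsg.Agent.CosetCert.FiTwentyThree.data.N Cfsg.Agent.CosetCert.FiTwentyThree.data.look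 r) (below_step (f := fun r => Nat.ble lev0.size r || lev0.ok Cfsg.Agent.CosetCert.FiTwentyThree.data.N Cfsg.Agent.CosetCert.FiTwentyThree.data.look r) (below_step (f := fun r => Nat.ble lev0.size r || lev0.ok Cfsg.Agent.CosetCert.FiTwentyThree.data.N Cfsg.Agent.CosetCert.FiTwentyThree.data.look r) (below_step (f := fun r => Nat.ble lev0.size r || lev0.ok Cfsg.Agent.CosetCert.FiTwentyThree.data.N Cfsg.Agent.CosetCert.FiTwentyThree.data.look r) (below_step (f := fun r => Nat.ble lev0.size r || lev0.ok Cfsg.Agent.CosetCert.FiTwentyThree.data.N Cfsg.Agent.CosetCert.FiTwentyThree.data.look r) (below_step (f := fun r => Nat.ble lev0.size r || lev0.ok Cfsg.Agent.CosetCert.FiTwentyThree.data.N Cfsg.Agent.CosetCert.FiTwentyThree.data.look r) (below_step (f := fun r => Nat.ble lev0.size r || lev0.ok Cfsg.Agent.CosetCert.FiTwentyThree.data.N Cfsg.Agent.CosetCert.FiTwentyThree.data.look r) (below_step (f := fun r => Nat.ble lev0.size r || lev0.ok Cfsg.Agent.CosetCert.FiTwentyThree.data.N Cfsg.Agent.CosetCert.FiTwentyThree.data.look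 r) (below_step (f := fun r => Nat.ble lev0.size r || lev0.ok Cfsg.Agent.CosetCert.FiTwentyThree.data.N Cfsg.Agent.CosetCert.FiTwentyThree.data.look r) (below_step (f := fun r => Nat.ble lev0.size r || lev0.ok Cfsg.Agent.CosetCert.FiTwentyThree.data.N Cfsg.Agent.CosetCert.FiTwentyThree.data.look r) (below_step (f := fun r => Nat.ble lev0.size r || lev0.ok Cfsg.Agent.CosetCert.FiTwentyThree.data.N Cfsg.Agent.CosetCert.FiTwentyThree.data.look r) (below_step (f := fun r => Nat.ble lev0.size r || lev0.ok Cfsg.Agent.CosetCert.FiTwentyThree.data.N Cfsg.Agent.CosetCert.FiTwentyThree.data.look r) (below_step (f := fun r => Nat.ble lev0.size r || lev0.ok Cfsg.Agent.CosetCert.FiTwentyThree.data.N Cfsg.Agent.CosetCert.FiTwentyThree.data.look r) (below_step (f := fun r => Nat.ble lev0.size r || lev0.ok Cfsg.Agent.CosetCert.FiTwentyThree.data.N Cfsg.Agent.CosetCert.FiTwentyThree.data.look r) (below_step (f := fun r => Nat.ble lev0.size r || lev0.ok Cfsg.Agent.CosetCert.FiTwentyThree.data.N Cfsg.Agent.CosetCert.FiTwentyThree.data.look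 r) (below_step (f := fun r => Nat.ble lev0.size r || lev0.ok Cfsg.Agent.CosetCert.FiTwentyThree.data.N Cfsg.Agent.CosetCert.FiTwentyThree.data.look r) (below_step (f := fun r => Nat.ble lev0.size r || lev0.ok Cfsg.Agent.CosetCert.FiTwentyThree.data.N Cfsg.Agent.CosetCert.FiTwentyThree.data.look r) (below_step (f := fun r => Nat.ble lev0.size r || lev0.ok Cfsg.Agent.CosetCert.FiTwentyThree.data.N Cfsg.Agent.CosetCert.FiTwentyThree.data.look r) (below_step (f := fun r => Nat.ble lev0.size r || lev0.ok Cfsg.Agent.CosetCert.FiTwentyThree.data.N Cfsg.Agent.CosetCert.FiTwentyThree.data.look r) (below_step (f := fun r => Nat.ble lev0.size r || lev0.ok Cfsg.Agent.CosetCert.FiTwentyThree.data.N Cfsg.Agent.CosetCert.FiTwentyThree.data.look r) (below_step (f := fun r => Nat.ble lev0.size r || lev0.ok Cfsg.Agent.CosetCert.FiTwentyThree.data.N Cfsg.Agent.CosetCert.FiTwentyThree.data.look r) (below_step (f := fun r => Nat.ble lev0.size r || lev0.ok Cfsg.Agent.CosetCert.FiTwentyThree.data.N Cfsg.Agent.CosetCert.FiTwentyThree.data.look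 r) (below_step (f := fun r => Nat.ble lev0.size r || lev0.ok Cfsg.Agent.CosetCert.FiTwentyThree.data.N Cfsg.Agent.CosetCert.FiTwentyThree.data.look r) (below_step (f := fun r => Nat.ble lev0.size r || lev0.ok Cfsg.Agent.CosetCert.FiTwentyThree.data.N Cfsg.Agent.CosetCert.FiTwentyThree.data.look r) (below_step (f := fun r => Nat.ble lev0.size r || lev0.ok Cfsg.Agent.CosetCert.FiTwentyThree.data.N Cfsg.Agent.CosetCert.FiTwentyThree.data.look r) (below_step (f := fun r => Nat.ble lev0.size r || lev0.ok Cfsg.Agent.CosetCert.FiTwentyThree.data.N Cfsg.Agent.CosetCert.FiTwentyThree.data.look r) (below_step (f := fun r => Nat.ble lev0.size r || lev0.ok Cfsg.Agent.CosetCert.FiTwentyThree.data.N Cfsg.Agent.CosetCert.FiTwentyThree.data.look r) (below_step (f := fun r => Nat.ble lev0.size r || lev0.ok Cfsg.Agent.CosetCert.FiTwentyThree.data.N Cfsg.Agent.CosetCert.FiTwentyThree.data.look r) (below_step (f := fun r => Nat.ble lev0.size r || lev0.ok Cfsg.Agent.CosetCert.FiTwentyThree.data.N Cfsg.Agent.CosetCert.FiTwentyThree.data.look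 r) (below_step (f := fun r => Nat.ble lev0.size r || lev0.ok Cfsg.Agent.CosetCert.FiTwentyThree.data.N Cfsg.Agent.CosetCert.FiTwentyThree.data.look r) (below_step (f := fun r => Nat.ble lev0.size r || lev0.ok Cfsg.Agent.CosetCert.FiTwentyThree.data.N Cfsg.Agent.CosetCert.FiTwentyThree.data.look r) (below_step (f := fun r => Nat.ble lev0.size r || lev0.ok Cfsg.Agent.CosetCert.FiTwentyThree.data.N Cfsg.Agent.CosetCert.FiTwentyThree.data.look r) (below_step (f := fun r => Nat.ble lev0.size r || lev0.ok Cfsg.Agent.CosetCert.FiTwentyThree.data.N Cfsg.Agent.CosetCert.FiTwentyThree.data.look r) (below_step (f := fun r => Nat.ble lev0.size r || lev0.ok Cfsg.Agent.CosetCert.FiTwentyThree.data.N Cfsg.Agent.CosetCert.FiTwentyThree.data.look r) (below_step (f := fun r => Nat.ble lev0.size r || lev0.ok Cfsg.Agent.CosetCert.FiTwentyThree.data.N Cfsg.Agent.CosetCert.FiTwentyThree.data.look r) (below_step (f := fun r => Nat.ble lev0.size r || lev0.ok Cfsg.Agent.CosetCert.FiTwentyThree.data.N Cfsg.Agent.CosetCert.FiTwentyThree.data.look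 r) (below_step (f := fun r => Nat.ble lev0.size r || lev0.ok Cfsg.Agent.CosetCert.FiTwentyThree.data.N Cfsg.Agent.CosetCert.FiTwentyThree.data.look r) (below_step (f := fun r => Nat.ble lev0.size r || lev0.ok Cfsg.Agent.CosetCert.FiTwentyThree.data.N Cfsg.Agent.CosetCert.FiTwentyThree.data.look r) (below_step (f := fun r => Nat.ble lev0.size r || lev0.ok Cfsg.Agent.CosetCert.FiTwentyThree.data.N Cfsg.Agent.CosetCert.FiTwentyThree.data.look r) (below_step (f := fun r => Nat.ble lev0.size r || lev0.ok Cfsg.Agent.CosetCert.FiTwentyThree.data.N Cfsg.Agent.CosetCert.FiTwentyThree.data.look r) (below_step (f := fun r => Nat.ble lev0.size r || lev0.ok Cfsg.Agent.CosetCert.FiTwentyThree.data.N Cfsg.Agent.CosetCert.FiTwentyThree.data.look r) (below_step (f := fun r => Nat.ble lev0.size r || lev0.ok Cfsg.Agent.CosetCert.FiTwentyThree.data.N Cfsg.Agent.CosetCert.FiTwentyThree.data.look r) (below_step (f := fun r => Nat.ble lev0.size r || lev0.ok Cfsg.Agent.CosetCert.FiTwentyThree.data.N Cfsg.Agent.CosetCert.FiTwentyThree.data.look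 r) (below_step (f := fun r => Nat.ble lev0.size r || lev0.ok Cfsg.Agent.CosetCert.FiTwentyThree.data.N Cfsg.Agent.CosetCert.FiTwentyThree.data.look r) (below_step (f := fun r => Nat.ble lev0.size r || lev0.ok Cfsg.Agent.CosetCert.FiTwentyThree.data.N Cfsg.Agent.CosetCert.FiTwentyThree.data.look r) (below_step (f := fun r => Nat.ble lev0.size r || lev0.ok Cfsg.Agent.CosetCert.FiTwentyThree.data.N Cfsg.Agent.CosetCert.FiTwentyThree.data.look r) (below_step (f := fun r => Nat.ble lev0.size r || lev0.ok Cfsg.Agent.CosetCert.FiTwentyThree.data.N Cfsg.Agent.CosetCert.FiTwentyThree.data.look r) (below_step (f := fun r => Nat.ble lev0.size r || lev0.ok Cfsg.Agent.CosetCert.FiTwentyThree.data.N Cfsg.Agent.CosetCert.FiTwentyThree.data.look r) (below_step (f := fun r => Nat.ble lev0.size r || lev0.ok Cfsg.Agent.CosetCert.FiTwentyThree.data.N Cfsg.Agent.CosetCert.FiTwentyThree.data.look r) (below_step (f := fun r => Nat.ble lev0.size r || lev0.ok Cfsg.Agent.CosetCert.FiTwentyThree.data.N Cfsg.Agent.CosetCert.FiTwentyThree.data.look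 r) (below_step (f := fun r => Nat.ble lev0.size r || lev0.ok Cfsg.Agent.CosetCert.FiTwentyThree.data.N Cfsg.Agent.CosetCert.FiTwentyThree.data.look r) below_zero (fun i h hi => of_ble_or h hi) lev0_b0) (fun i h hi => of_ble_or h hi) lev0_b1) (fun i h hi => of_ble_or h hi) lev0_b2) (fun i h hi => of_ble_or h hi) lev0_b3) (fun i h hi => of_ble_or h hi) lev0_b4) (fun i h hi => of_ble_or h hi) lev0_b5) (fun i h hi => of_ble_or h hi) lev0_b6) (fun i h hi => of_ble_or h hi) lev0_b7) (fun i h hi => of_ble_or h hi) lev0_b8) (fun i h hi => of_ble_or h hi) lev0_b9) (fun i h hi => of_ble_or h hi) lev0_b10) (fun i h hi => of_ble_or h hi) lev0_b11) (fun i h hi => of_ble_or h hi) lev0_b12) (fun i h hi => of_ble_or h hi) lev0_b13) (fun i h hi => of_ble_or h hi) lev0_b14) (fun i h hi => of_ble_or h hi) lev0_b15) (fun i h hi => of_ble_or h hi) lev0_b16) (fun i h hi => of_ble_or h hi) lev0_b17) (fun i h hi => of_ble_or h hi) lev0_b18) (fun i h hi => of_ble_or h hi) lev0_b19) (fun i h hi => of_ble_or h hi) lev0_b20)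 (fun i h hi => of_ble_or h hi) lev0_b21) (fun i h hi => of_ble_or h hi) lev0_b22) (fun i h hi => of_ble_or h hi) lev0_b23) (fun i h hi => of_ble_or h hi) lev0_b24) (fun i h hi => of_ble_or h hi) lev0_b25) (fun i h hi => of_ble_or h hi) lev0_b26) (fun i h hi => of_ble_or h hi) lev0_b27) (fun i h hi => of_ble_or h hi) lev0_b28) (fun i h hi => of_ble_or h hi) lev0_b29) (fun i h hi => of_ble_or h hi) lev0_b30) (fun i h hi => of_ble_or h hi) lev0_b31) (fun i h hi => of_ble_or h hi) lev0_b32) (fun i h hi => of_ble_or h hi) lev0_b33) (fun i h hi => of_ble_or h hi) lev0_b34) (fun i h hi => of_ble_or h hi) lev0_b35) (fun i h hi => of_ble_or h hi) lev0_b36) (fun i h hi => of_ble_or h hi) lev0_b37) (fun i h hi => of_ble_or h hi) lev0_b38) (fun i h hi => of_ble_or h hi) lev0_b39) (fun i h hi => of_ble_or h hi) lev0_b40) (fun i h hi => of_ble_or h hi) lev0_b41) (fun i h hi => of_ble_or h hi) lev0_b42) (fun i h hi => of_ble_or h hi) lev0_b43) (fun i h hi => of_ble_or h hi) lev0_b44) (fun i h hi => of_ble_or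 h hi) lev0_b45) (fun i h hi => of_ble_or h hi) lev0_b46) (fun i h hi => of_ble_or h hi) lev0_b47) (fun i h hi => of_ble_or h hi) lev0_b48) (fun i h hi => of_ble_or h hi) lev0_b49) (fun i h hi => of_ble_or h hi) lev0_b50) (fun i h hi => of_ble_or h hi) lev0_b51) (fun i h hi => of_ble_or h hi) lev0_b52) (fun i h hi => of_ble_or h hi) lev0_b53) (fun i h hi => of_ble_or h hi) lev0_b54) (fun i h hi => of_ble_or h hi) lev0_b55) (fun i h hi => of_ble_or h hi) lev0_b56) (fun i h hi => of_ble_or h hi) lev0_b57) (fun i h hi => of_ble_or h hi) lev0_b58) (fun i h hi => of_ble_or h hi) lev0_b59) (fun i h hi => of_ble_or h hi) lev0_b60) (fun i h hi => of_ble_or h hi) lev0_b61) (fun i h hi => of_ble_or h hi) lev0_b62) (fun i h hi => of_ble_or h hi) lev0_b63) (fun i h hi => of_ble_or h hi) lev0_b64) (fun i h hi => of_ble_or h hi) lev0_b65) (fun i h hi => of_ble_or h hi) lev0_b66) (fun i h hi => of_ble_or h hi) lev0_b67) (fun i h hi => of_ble_or h hi) lev0_b68) (fun i h hi => of_ble_or h hi) lev0_b69) (fun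 i h hi => of_ble_or h hi) lev0_b70) (fun i h hi => of_ble_or h hi) lev0_b71) (fun i h hi => of_ble_or h hi) lev0_b72) (fun i h hi => of_ble_or h hi) lev0_b73) (fun i h hi => of_ble_or h hi) lev0_b74) (fun i h hi => of_ble_or h hi) lev0_b75) (fun i h hi => of_ble_or h hi) lev0_b76) (fun i h hi => of_ble_or h hi) lev0_b77) (fun i h hi => of_ble_or h hi) lev0_b78) (fun i h hi => of_ble_or h hi) lev0_b79) (fun i h hi => of_ble_or h hi) lev0_b80) (fun i h hi => of_ble_or h hi) lev0_b81) (fun i h hi => of_ble_or h hi) lev0_b82) (fun i h hi => of_ble_or h hi) lev0_b83) (fun i h hi => of_ble_or h hi) lev0_b84) (fun i h hi => of_ble_or h hi) lev0_b85) (fun i h hi => of_ble_or h hi) lev0_b86) (fun i h hi => of_ble_or h hi) lev0_b87) (fun i h hi => of_ble_or h hi) lev0_b88) (fun i h hi => of_ble_or h hi) lev0_b89) (fun i h hi => of_ble_or h hi) lev0_b90) (fun i h hi => of_ble_or h hi) lev0_b91) (fun i h hi => of_ble_or h hi) lev0_b92) (fun i h hi => of_ble_or h hi) lev0_b93) (fun i h hi => of_ble_or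 h hi) lev0_b94) (fun i h hi => of_ble_or h hi) lev0_b95) (fun i h hi => of_ble_or h hi) lev0_b96) (fun i h hi => of_ble_or h hi) lev0_b97) (fun i h hi => of_ble_or h hi) lev0_b98) (fun i h hi => of_ble_or h hi) lev0_b99) (fun i h hi => of_ble_or h hi) lev0_b100) (fun i h hi => of_ble_or h hi) lev0_b101) (fun i h hi => of_ble_or h hi) lev0_b102) (fun i h hi => of_ble_or h hi) lev0_b103) (fun i h hi => of_ble_or h hi) lev0_b104) (fun i h hi => of_ble_or h hi) lev0_b105) (fun i h hi => of_ble_or h hi) lev0_b106) (fun i h hi => of_ble_or h hi) lev0_b107) (fun i h hi => of_ble_or h hi) lev0_b108) (fun i h hi => of_ble_or h hi) lev0_b109) (fun i h hi => of_ble_or h hi) lev0_b110) (fun i h hi => of_ble_or h hi) lev0_b111) (fun i h hi => of_ble_or h hi) lev0_b112) (fun i h hi => of_ble_or h hi) lev0_b113) (fun i h hi => of_ble_or h hi) lev0_b114) (fun i h hi => of_ble_or h hi) lev0_b115) (fun i h hi => of_ble_or h hi) lev0_b116) (fun i h hi => of_ble_or h hi) lev0_b117) (fun i h hi => of_ble_or h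 hi) lev0_b118) (fun i h hi => of_ble_or h hi) lev0_b119) (fun i h hi => of_ble_or h hi) lev0_b120) (fun i h hi => of_ble_or h hi) lev0_b121) (fun i h hi => of_ble_or h hi) lev0_b122) (fun i h hi => of_ble_or h hi) lev0_b123) : ∀ i < 31488 + 2 ^ 8, i < lev0.size → lev0.ok Cfsg.Agent.CosetCert.FiTwentyThree.data.N Cfsg.Agent.CosetCert.FiTwentyThree.data.look i = true)
    r (lt_of_lt_of_le hr (by decide +kernel)) hr

theorem lev0_gens : ∀ u ∈ lev0.gens, (∀ l ∈ u, l ∈ (List.range Cfsg.Agent.CosetCert.FiTwentyThree.data.cols.length).map (· + 1)) ∧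
    ∀ p ∈ [], runWord Cfsg.Agent.CosetCert.FiTwentyThree.data.look u p = p := by
  decide +kernel

theorem lev1_ok : ∀ r < lev1.size, lev1.ok Cfsg.Agent.CosetCert.FiTwentyThree.data.N Cfsg.Agent.CosetCert.FiTwentyThree.data.look r = true := fun r hr =>
  ((below_step (f := fun r => Nat.ble lev1.size r || lev1.ok Cfsg.Agent.CosetCert.FiTwentyThree.data.N Cfsg.Agent.CosetCert.FiTwentyThree.data.look r) (below_step (f := fun r => Nat.ble lev1.size r || lev1.ok Cfsg.Agent.CosetCert.FiTwentyThree.data.N Cfsg.Agent.CosetCert.FiTwentyThree.data.look r) (below_step (f := fun r => Nat.ble lev1.size r || lev1.ok Cfsg.Agent.CosetCert.FiTwentyThree.data.N Cfsg.Agent.CosetCert.FiTwentyThree.data.look r) (below_step (f := fun r => Nat.ble lev1.size r || lev1.ok Cfsg.Agent.CosetCert.FiTwentyThree.data.N Cfsg.Agent.CosetCert.FiTwentyThree.data.look r) (below_step (f := fun r => Nat.ble lev1.size r || lev1.ok Cfsg.Agent.CosetCert.FiTwentyThree.data.N Cfsg.Agent.CosetCert.FiTwentyThree.data.look r) (below_step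 (f := fun r => Nat.ble lev1.size r || lev1.ok Cfsg.Agent.CosetCert.FiTwentyThree.data.N Cfsg.Agent.CosetCert.FiTwentyThree.data.look r) (below_step (f := fun r => Nat.ble lev1.size r || lev1.ok Cfsg.Agent.CosetCert.FiTwentyThree.data.N Cfsg.Agent.CosetCert.FiTwentyThree.data.look r) (below_step (f := fun r => Nat.ble lev1.size r || lev1.ok Cfsg.Agent.CosetCert.FiTwentyThree.data.N Cfsg.Agent.CosetCert.FiTwentyThree.data.look r) (below_step (f := fun r => Nat.ble lev1.size r || lev1.ok Cfsg.Agent.CosetCert.FiTwentyThree.data.N Cfsg.Agent.CosetCert.FiTwentyThree.data.look r) (below_step (f := fun r => Nat.ble lev1.size r || lev1.ok Cfsg.Agent.CosetCert.FiTwentyThree.data.N Cfsg.Agent.CosetCert.FiTwentyThree.data.look r) (below_step (f := fun r => Nat.ble lev1.size r || lev1.ok Cfsg.Agent.CosetCert.FiTwentyThree.data.N Cfsg.Agent.CosetCert.FiTwentyThree.data.look r) (below_step (f := fun r => Nat.ble lev1.size r || lev1.ok Cfsg.Agent.CosetCert.FiTwentyThree.data.N Cfsg.Agent.CosetCert.FiTwentyThree.data.look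 r) (below_step (f := fun r => Nat.ble lev1.size r || lev1.ok Cfsg.Agent.CosetCert.FiTwentyThree.data.N Cfsg.Agent.CosetCert.FiTwentyThree.data.look r) (below_step (f := fun r => Nat.ble lev1.size r || lev1.ok Cfsg.Agent.CosetCert.FiTwentyThree.data.N Cfsg.Agent.CosetCert.FiTwentyThree.data.look r) below_zero (fun i h hi => of_ble_or h hi) lev1_b0) (fun i h hi => of_ble_or h hi) lev1_b1) (fun i h hi => of_ble_or h hi) lev1_b2) (fun i h hi => of_ble_or h hi) lev1_b3) (fun i h hi => of_ble_or h hi) lev1_b4) (fun i h hi => of_ble_or h hi) lev1_b5) (fun i h hi => of_ble_or h hi) lev1_b6) (fun i h hi => of_ble_or h hi) lev1_b7) (fun i h hi => of_ble_or h hi) lev1_b8) (fun i h hi => of_ble_or h hi) lev1_b9) (fun i h hi => of_ble_or h hi) lev1_b10) (fun i h hi => of_ble_or h hi) lev1_b11) (fun i h hi => of_ble_or h hi) lev1_b12) (fun i h hi => of_ble_or h hi) lev1_b13) : ∀ i < 3328 + 2 ^ 8, i < lev1.size → lev1.ok Cfsg.Agent.CosetCert.FiTwentyThree.data.N Cfsg.Agent.CosetCert.FiTwentyThree.data.look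 i = true)
    r (lt_of_lt_of_le hr (by decide +kernel)) hr

theorem lev1_gens : ∀ u ∈ lev1.gens, (∀ l ∈ u, l ∈ (List.range Cfsg.Agent.CosetCert.FiTwentyThree.data.cols.length).map (· + 1)) ∧
    ∀ p ∈ [0], runWord Cfsg.Agent.CosetCert.FiTwentyThree.data.look u p = p := by
  decide +kernel

theorem lev2_ok : ∀ r < lev2.size, lev2.ok Cfsg.Agent.CosetCert.FiTwentyThree.data.N Cfsg.Agent.CosetCert.FiTwentyThree.data.look r = true := fun r hr =>
  ((below_step (f := fun r => Nat.ble lev2.size r || lev2.ok Cfsg.Agent.CosetCert.FiTwentyThree.data.N Cfsg.Agent.CosetCert.FiTwentyThree.data.look r) (below_step (f := fun r => Nat.ble lev2.size r || lev2.ok Cfsg.Agent.CosetCert.FiTwentyThree.data.N Cfsg.Agent.CosetCert.FiTwentyThree.data.look r) (below_step (f := fun r => Nat.ble lev2.size r || lev2.ok Cfsg.Agent.CosetCert.FiTwentyThree.data.N Cfsg.Agent.CosetCert.FiTwentyThree.data.look r) below_zero (fun i h hi => of_ble_or h hi) lev2_b0) (fun i h hi => of_ble_or h hi) lev2_b1) (fun i h hi => of_ble_or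 h hi) lev2_b2) : ∀ i < 512 + 2 ^ 8, i < lev2.size → lev2.ok Cfsg.Agent.CosetCert.FiTwentyThree.data.N Cfsg.Agent.CosetCert.FiTwentyThree.data.look i = true)
    r (lt_of_lt_of_le hr (by decide +kernel)) hr

theorem lev2_gens : ∀ u ∈ lev2.gens, (∀ l ∈ u, l ∈ (List.range Cfsg.Agent.CosetCert.FiTwentyThree.data.cols.length).map (· + 1)) ∧
    ∀ p ∈ [11589, 0], runWord Cfsg.Agent.CosetCert.FiTwentyThree.data.look u p = p := by
  decide +kernel

theorem lev3_ok : ∀ r < lev3.size, lev3.ok Cfsg.Agent.CosetCert.FiTwentyThree.data.N Cfsg.Agent.CosetCert.FiTwentyThree.data.look r = true := fun r hr =>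
  ((below_step (f := fun r => Nat.ble lev3.size r || lev3.ok Cfsg.Agent.CosetCert.FiTwentyThree.data.N Cfsg.Agent.CosetCert.FiTwentyThree.data.look r) (below_step (f := fun r => Nat.ble lev3.size r || lev3.ok Cfsg.Agent.CosetCert.FiTwentyThree.data.N Cfsg.Agent.CosetCert.FiTwentyThree.data.look r) (below_step (f := fun r => Nat.ble lev3.size r || lev3.ok Cfsg.Agent.CosetCert.FiTwentyThree.data.N Cfsg.Agent.CosetCert.FiTwentyThree.data.look r) (below_step (f := fun r => Nat.ble lev3.size r || lev3.ok Cfsg.Agent.CosetCert.FiTwentyThree.data.N Cfsg.Agent.CosetCert.FiTwentyThree.data.look r) (below_step (f := fun r => Nat.ble lev3.size r || lev3.ok Cfsg.Agent.CosetCert.FiTwentyThree.data.N Cfsg.Agent.CosetCert.FiTwentyThree.data.look r) (below_step (f := fun r => Nat.ble lev3.size r || lev3.ok Cfsg.Agent.CosetCert.FiTwentyThree.data.N Cfsg.Agent.CosetCert.FiTwentyThree.data.look r) (below_step (f := fun r => Nat.ble lev3.size r || lev3.ok Cfsg.Agent.CosetCert.FiTwentyThree.data.N Cfsg.Agent.CosetCert.FiTwentyThree.data.look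 r) (below_step (f := fun r => Nat.ble lev3.size r || lev3.ok Cfsg.Agent.CosetCert.FiTwentyThree.data.N Cfsg.Agent.CosetCert.FiTwentyThree.data.look r) (below_step (f := fun r => Nat.ble lev3.size r || lev3.ok Cfsg.Agent.CosetCert.FiTwentyThree.data.N Cfsg.Agent.CosetCert.FiTwentyThree.data.look r) (below_step (f := fun r => Nat.ble lev3.size r || lev3.ok Cfsg.Agent.CosetCert.FiTwentyThree.data.N Cfsg.Agent.CosetCert.FiTwentyThree.data.look r) (below_step (f := fun r => Nat.ble lev3.size r || lev3.ok Cfsg.Agent.CosetCert.FiTwentyThree.data.N Cfsg.Agent.CosetCert.FiTwentyThree.data.look r) (below_step (f := fun r => Nat.ble lev3.size r || lev3.ok Cfsg.Agent.CosetCert.FiTwentyThree.data.N Cfsg.Agent.CosetCert.FiTwentyThree.data.look r) (below_step (f := fun r => Nat.ble lev3.size r || lev3.ok Cfsg.Agent.CosetCert.FiTwentyThree.data.N Cfsg.Agent.CosetCert.FiTwentyThree.data.look r) (below_step (f := fun r => Nat.ble lev3.size r || lev3.ok Cfsg.Agent.CosetCert.FiTwentyThree.data.N Cfsg.Agent.CosetCert.FiTwentyThree.data.look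 r) (below_step (f := fun r => Nat.ble lev3.size r || lev3.ok Cfsg.Agent.CosetCert.FiTwentyThree.data.N Cfsg.Agent.CosetCert.FiTwentyThree.data.look r) (below_step (f := fun r => Nat.ble lev3.size r || lev3.ok Cfsg.Agent.CosetCert.FiTwentyThree.data.N Cfsg.Agent.CosetCert.FiTwentyThree.data.look r) (below_step (f := fun r => Nat.ble lev3.size r || lev3.ok Cfsg.Agent.CosetCert.FiTwentyThree.data.N Cfsg.Agent.CosetCert.FiTwentyThree.data.look r) (below_step (f := fun r => Nat.ble lev3.size r || lev3.ok Cfsg.Agent.CosetCert.FiTwentyThree.data.N Cfsg.Agent.CosetCert.FiTwentyThree.data.look r) (below_step (f := fun r => Nat.ble lev3.size r || lev3.ok Cfsg.Agent.CosetCert.FiTwentyThree.data.N Cfsg.Agent.CosetCert.FiTwentyThree.data.look r) (below_step (f := fun r => Nat.ble lev3.size r || lev3.ok Cfsg.Agent.CosetCert.FiTwentyThree.data.N Cfsg.Agent.CosetCert.FiTwentyThree.data.look r) (below_step (f := fun r => Nat.ble lev3.size r || lev3.ok Cfsg.Agent.CosetCert.FiTwentyThree.data.N Cfsg.Agent.CosetCert.FiTwentyThree.data.look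 r) (below_step (f := fun r => Nat.ble lev3.size r || lev3.ok Cfsg.Agent.CosetCert.FiTwentyThree.data.N Cfsg.Agent.CosetCert.FiTwentyThree.data.look r) (below_step (f := fun r => Nat.ble lev3.size r || lev3.ok Cfsg.Agent.CosetCert.FiTwentyThree.data.N Cfsg.Agent.CosetCert.FiTwentyThree.data.look r) (below_step (f := fun r => Nat.ble lev3.size r || lev3.ok Cfsg.Agent.CosetCert.FiTwentyThree.data.N Cfsg.Agent.CosetCert.FiTwentyThree.data.look r) (below_step (f := fun r => Nat.ble lev3.size r || lev3.ok Cfsg.Agent.CosetCert.FiTwentyThree.data.N Cfsg.Agent.CosetCert.FiTwentyThree.data.look r) (below_step (f := fun r => Nat.ble lev3.size r || lev3.ok Cfsg.Agent.CosetCert.FiTwentyThree.data.N Cfsg.Agent.CosetCert.FiTwentyThree.data.look r) (below_step (f := fun r => Nat.ble lev3.size r || lev3.ok Cfsg.Agent.CosetCert.FiTwentyThree.data.N Cfsg.Agent.CosetCert.FiTwentyThree.data.look r) (below_step (f := fun r => Nat.ble lev3.size r || lev3.ok Cfsg.Agent.CosetCert.FiTwentyThree.data.N Cfsg.Agent.CosetCert.FiTwentyThree.data.look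 r) (below_step (f := fun r => Nat.ble lev3.size r || lev3.ok Cfsg.Agent.CosetCert.FiTwentyThree.data.N Cfsg.Agent.CosetCert.FiTwentyThree.data.look r) (below_step (f := fun r => Nat.ble lev3.size r || lev3.ok Cfsg.Agent.CosetCert.FiTwentyThree.data.N Cfsg.Agent.CosetCert.FiTwentyThree.data.look r) (below_step (f := fun r => Nat.ble lev3.size r || lev3.ok Cfsg.Agent.CosetCert.FiTwentyThree.data.N Cfsg.Agent.CosetCert.FiTwentyThree.data.look r) (below_step (f := fun r => Nat.ble lev3.size r || lev3.ok Cfsg.Agent.CosetCert.FiTwentyThree.data.N Cfsg.Agent.CosetCert.FiTwentyThree.data.look r) (below_step (f := fun r => Nat.ble lev3.size r || lev3.ok Cfsg.Agent.CosetCert.FiTwentyThree.data.N Cfsg.Agent.CosetCert.FiTwentyThree.data.look r) (below_step (f := fun r => Nat.ble lev3.size r || lev3.ok Cfsg.Agent.CosetCert.FiTwentyThree.data.N Cfsg.Agent.CosetCert.FiTwentyThree.data.look r) (below_step (f := fun r => Nat.ble lev3.size r || lev3.ok Cfsg.Agent.CosetCert.FiTwentyThree.data.N Cfsg.Agent.CosetCert.FiTwentyThree.data.look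 r) (below_step (f := fun r => Nat.ble lev3.size r || lev3.ok Cfsg.Agent.CosetCert.FiTwentyThree.data.N Cfsg.Agent.CosetCert.FiTwentyThree.data.look r) (below_step (f := fun r => Nat.ble lev3.size r || lev3.ok Cfsg.Agent.CosetCert.FiTwentyThree.data.N Cfsg.Agent.CosetCert.FiTwentyThree.data.look r) (below_step (f := fun r => Nat.ble lev3.size r || lev3.ok Cfsg.Agent.CosetCert.FiTwentyThree.data.N Cfsg.Agent.CosetCert.FiTwentyThree.data.look r) (below_step (f := fun r => Nat.ble lev3.size r || lev3.ok Cfsg.Agent.CosetCert.FiTwentyThree.data.N Cfsg.Agent.CosetCert.FiTwentyThree.data.look r) (below_step (f := fun r => Nat.ble lev3.size r || lev3.ok Cfsg.Agent.CosetCert.FiTwentyThree.data.N Cfsg.Agent.CosetCert.FiTwentyThree.data.look r) (below_step (f := fun r => Nat.ble lev3.size r || lev3.ok Cfsg.Agent.CosetCert.FiTwentyThree.data.N Cfsg.Agent.CosetCert.FiTwentyThree.data.look r) (below_step (f := fun r => Nat.ble lev3.size r || lev3.ok Cfsg.Agent.CosetCert.FiTwentyThree.data.N Cfsg.Agent.CosetCert.FiTwentyThree.data.look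 r) (below_step (f := fun r => Nat.ble lev3.size r || lev3.ok Cfsg.Agent.CosetCert.FiTwentyThree.data.N Cfsg.Agent.CosetCert.FiTwentyThree.data.look r) (below_step (f := fun r => Nat.ble lev3.size r || lev3.ok Cfsg.Agent.CosetCert.FiTwentyThree.data.N Cfsg.Agent.CosetCert.FiTwentyThree.data.look r) (below_step (f := fun r => Nat.ble lev3.size r || lev3.ok Cfsg.Agent.CosetCert.FiTwentyThree.data.N Cfsg.Agent.CosetCert.FiTwentyThree.data.look r) (below_step (f := fun r => Nat.ble lev3.size r || lev3.ok Cfsg.Agent.CosetCert.FiTwentyThree.data.N Cfsg.Agent.CosetCert.FiTwentyThree.data.look r) (below_step (f := fun r => Nat.ble lev3.size r || lev3.ok Cfsg.Agent.CosetCert.FiTwentyThree.data.N Cfsg.Agent.CosetCert.FiTwentyThree.data.look r) (below_step (f := fun r => Nat.ble lev3.size r || lev3.ok Cfsg.Agent.CosetCert.FiTwentyThree.data.N Cfsg.Agent.CosetCert.FiTwentyThree.data.look r) (below_step (f := fun r => Nat.ble lev3.size r || lev3.ok Cfsg.Agent.CosetCert.FiTwentyThree.data.N Cfsg.Agent.CosetCert.FiTwentyThree.data.look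 r) (below_step (f := fun r => Nat.ble lev3.size r || lev3.ok Cfsg.Agent.CosetCert.FiTwentyThree.data.N Cfsg.Agent.CosetCert.FiTwentyThree.data.look r) (below_step (f := fun r => Nat.ble lev3.size r || lev3.ok Cfsg.Agent.CosetCert.FiTwentyThree.data.N Cfsg.Agent.CosetCert.FiTwentyThree.data.look r) (below_step (f := fun r => Nat.ble lev3.size r || lev3.ok Cfsg.Agent.CosetCert.FiTwentyThree.data.N Cfsg.Agent.CosetCert.FiTwentyThree.data.look r) (below_step (f := fun r => Nat.ble lev3.size r || lev3.ok Cfsg.Agent.CosetCert.FiTwentyThree.data.N Cfsg.Agent.CosetCert.FiTwentyThree.data.look r) (below_step (f := fun r => Nat.ble lev3.size r || lev3.ok Cfsg.Agent.CosetCert.FiTwentyThree.data.N Cfsg.Agent.CosetCert.FiTwentyThree.data.look r) (below_step (f := fun r => Nat.ble lev3.size r || lev3.ok Cfsg.Agent.CosetCert.FiTwentyThree.data.N Cfsg.Agent.CosetCert.FiTwentyThree.data.look r) (below_step (f := fun r => Nat.ble lev3.size r || lev3.ok Cfsg.Agent.CosetCert.FiTwentyThree.data.N Cfsg.Agent.CosetCert.FiTwentyThree.data.look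 r) (below_step (f := fun r => Nat.ble lev3.size r || lev3.ok Cfsg.Agent.CosetCert.FiTwentyThree.data.N Cfsg.Agent.CosetCert.FiTwentyThree.data.look r) (below_step (f := fun r => Nat.ble lev3.size r || lev3.ok Cfsg.Agent.CosetCert.FiTwentyThree.data.N Cfsg.Agent.CosetCert.FiTwentyThree.data.look r) (below_step (f := fun r => Nat.ble lev3.size r || lev3.ok Cfsg.Agent.CosetCert.FiTwentyThree.data.N Cfsg.Agent.CosetCert.FiTwentyThree.data.look r) (below_step (f := fun r => Nat.ble lev3.size r || lev3.ok Cfsg.Agent.CosetCert.FiTwentyThree.data.N Cfsg.Agent.CosetCert.FiTwentyThree.data.look r) (below_step (f := fun r => Nat.ble lev3.size r || lev3.ok Cfsg.Agent.CosetCert.FiTwentyThree.data.N Cfsg.Agent.CosetCert.FiTwentyThree.data.look r) (below_step (f := fun r => Nat.ble lev3.size r || lev3.ok Cfsg.Agent.CosetCert.FiTwentyThree.data.N Cfsg.Agent.CosetCert.FiTwentyThree.data.look r) (below_step (f := fun r => Nat.ble lev3.size r || lev3.ok Cfsg.Agent.CosetCert.FiTwentyThree.data.N Cfsg.Agent.CosetCert.FiTwentyThree.data.look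 r) (below_step (f := fun r => Nat.ble lev3.size r || lev3.ok Cfsg.Agent.CosetCert.FiTwentyThree.data.N Cfsg.Agent.CosetCert.FiTwentyThree.data.look r) (below_step (f := fun r => Nat.ble lev3.size r || lev3.ok Cfsg.Agent.CosetCert.FiTwentyThree.data.N Cfsg.Agent.CosetCert.FiTwentyThree.data.look r) (below_step (f := fun r => Nat.ble lev3.size r || lev3.ok Cfsg.Agent.CosetCert.FiTwentyThree.data.N Cfsg.Agent.CosetCert.FiTwentyThree.data.look r) (below_step (f := fun r => Nat.ble lev3.size r || lev3.ok Cfsg.Agent.CosetCert.FiTwentyThree.data.N Cfsg.Agent.CosetCert.FiTwentyThree.data.look r) (below_step (f := fun r => Nat.ble lev3.size r || lev3.ok Cfsg.Agent.CosetCert.FiTwentyThree.data.N Cfsg.Agent.CosetCert.FiTwentyThree.data.look r) (below_step (f := fun r => Nat.ble lev3.size r || lev3.ok Cfsg.Agent.CosetCert.FiTwentyThree.data.N Cfsg.Agent.CosetCert.FiTwentyThree.data.look r) (below_step (f := fun r => Nat.ble lev3.size r || lev3.ok Cfsg.Agent.CosetCert.FiTwentyThree.data.N Cfsg.Agent.CosetCert.FiTwentyThree.data.look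 r) (below_step (f := fun r => Nat.ble lev3.size r || lev3.ok Cfsg.Agent.CosetCert.FiTwentyThree.data.N Cfsg.Agent.CosetCert.FiTwentyThree.data.look r) (below_step (f := fun r => Nat.ble lev3.size r || lev3.ok Cfsg.Agent.CosetCert.FiTwentyThree.data.N Cfsg.Agent.CosetCert.FiTwentyThree.data.look r) (below_step (f := fun r => Nat.ble lev3.size r || lev3.ok Cfsg.Agent.CosetCert.FiTwentyThree.data.N Cfsg.Agent.CosetCert.FiTwentyThree.data.look r) (below_step (f := fun r => Nat.ble lev3.size r || lev3.ok Cfsg.Agent.CosetCert.FiTwentyThree.data.N Cfsg.Agent.CosetCert.FiTwentyThree.data.look r) (below_step (f := fun r => Nat.ble lev3.size r || lev3.ok Cfsg.Agent.CosetCert.FiTwentyThree.data.N Cfsg.Agent.CosetCert.FiTwentyThree.data.look r) (below_step (f := fun r => Nat.ble lev3.size r || lev3.ok Cfsg.Agent.CosetCert.FiTwentyThree.data.N Cfsg.Agent.CosetCert.FiTwentyThree.data.look r) (below_step (f := fun r => Nat.ble lev3.size r || lev3.ok Cfsg.Agent.CosetCert.FiTwentyThree.data.N Cfsg.Agent.CosetCert.FiTwentyThree.data.look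 r) (below_step (f := fun r => Nat.ble lev3.size r || lev3.ok Cfsg.Agent.CosetCert.FiTwentyThree.data.N Cfsg.Agent.CosetCert.FiTwentyThree.data.look r) (below_step (f := fun r => Nat.ble lev3.size r || lev3.ok Cfsg.Agent.CosetCert.FiTwentyThree.data.N Cfsg.Agent.CosetCert.FiTwentyThree.data.look r) (below_step (f := fun r => Nat.ble lev3.size r || lev3.ok Cfsg.Agent.CosetCert.FiTwentyThree.data.N Cfsg.Agent.CosetCert.FiTwentyThree.data.look r) (below_step (f := fun r => Nat.ble lev3.size r || lev3.ok Cfsg.Agent.CosetCert.FiTwentyThree.data.N Cfsg.Agent.CosetCert.FiTwentyThree.data.look r) (below_step (f := fun r => Nat.ble lev3.size r || lev3.ok Cfsg.Agent.CosetCert.FiTwentyThree.data.N Cfsg.Agent.CosetCert.FiTwentyThree.data.look r) (below_step (f := fun r => Nat.ble lev3.size r || lev3.ok Cfsg.Agent.CosetCert.FiTwentyThree.data.N Cfsg.Agent.CosetCert.FiTwentyThree.data.look r) (below_step (f := fun r => Nat.ble lev3.size r || lev3.ok Cfsg.Agent.CosetCert.FiTwentyThree.data.N Cfsg.Agent.CosetCert.FiTwentyThree.data.look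 r) (below_step (f := fun r => Nat.ble lev3.size r || lev3.ok Cfsg.Agent.CosetCert.FiTwentyThree.data.N Cfsg.Agent.CosetCert.FiTwentyThree.data.look r) (below_step (f := fun r => Nat.ble lev3.size r || lev3.ok Cfsg.Agent.CosetCert.FiTwentyThree.data.N Cfsg.Agent.CosetCert.FiTwentyThree.data.look r) (below_step (f := fun r => Nat.ble lev3.size r || lev3.ok Cfsg.Agent.CosetCert.FiTwentyThree.data.N Cfsg.Agent.CosetCert.FiTwentyThree.data.look r) (below_step (f := fun r => Nat.ble lev3.size r || lev3.ok Cfsg.Agent.CosetCert.FiTwentyThree.data.N Cfsg.Agent.CosetCert.FiTwentyThree.data.look r) (below_step (f := fun r => Nat.ble lev3.size r || lev3.ok Cfsg.Agent.CosetCert.FiTwentyThree.data.N Cfsg.Agent.CosetCert.FiTwentyThree.data.look r) (below_step (f := fun r => Nat.ble lev3.size r || lev3.ok Cfsg.Agent.CosetCert.FiTwentyThree.data.N Cfsg.Agent.CosetCert.FiTwentyThree.data.look r) below_zero (fun i h hi => of_ble_or h hi) lev3_b0) (fun i h hi => of_ble_or h hi) lev3_b1) (fun i h hi => of_ble_or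 h hi) lev3_b2) (fun i h hi => of_ble_or h hi) lev3_b3) (fun i h hi => of_ble_or h hi) lev3_b4) (fun i h hi => of_ble_or h hi) lev3_b5) (fun i h hi => of_ble_or h hi) lev3_b6) (fun i h hi => of_ble_or h hi) lev3_b7) (fun i h hi => of_ble_or h hi) lev3_b8) (fun i h hi => of_ble_or h hi) lev3_b9) (fun i h hi => of_ble_or h hi) lev3_b10) (fun i h hi => of_ble_or h hi) lev3_b11) (fun i h hi => of_ble_or h hi) lev3_b12) (fun i h hi => of_ble_or h hi) lev3_b13) (fun i h hi => of_ble_or h hi) lev3_b14) (fun i h hi => of_ble_or h hi) lev3_b15) (fun i h hi => of_ble_or h hi) lev3_b16) (fun i h hi => of_ble_or h hi) lev3_b17) (fun i h hi => of_ble_or h hi) lev3_b18) (fun i h hi => of_ble_or h hi) lev3_b19) (fun i h hi => of_ble_or h hi) lev3_b20) (fun i h hi => of_ble_or h hi) lev3_b21) (fun i h hi => of_ble_or h hi) lev3_b22) (fun i h hi => of_ble_or h hi) lev3_b23) (fun i h hi => of_ble_or h hi) lev3_b24) (fun i h hi => of_ble_or h hi) lev3_b25) (fun i h hi => of_ble_or h hi) lev3_b26) (fun i h hi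 => of_ble_or h hi) lev3_b27) (fun i h hi => of_ble_or h hi) lev3_b28) (fun i h hi => of_ble_or h hi) lev3_b29) (fun i h hi => of_ble_or h hi) lev3_b30) (fun i h hi => of_ble_or h hi) lev3_b31) (fun i h hi => of_ble_or h hi) lev3_b32) (fun i h hi => of_ble_or h hi) lev3_b33) (fun i h hi => of_ble_or h hi) lev3_b34) (fun i h hi => of_ble_or h hi) lev3_b35) (fun i h hi => of_ble_or h hi) lev3_b36) (fun i h hi => of_ble_or h hi) lev3_b37) (fun i h hi => of_ble_or h hi) lev3_b38) (fun i h hi => of_ble_or h hi) lev3_b39) (fun i h hi => of_ble_or h hi) lev3_b40) (fun i h hi => of_ble_or h hi) lev3_b41) (fun i h hi => of_ble_or h hi) lev3_b42) (fun i h hi => of_ble_or h hi) lev3_b43) (fun i h hi => of_ble_or h hi) lev3_b44) (fun i h hi => of_ble_or h hi) lev3_b45) (fun i h hi => of_ble_or h hi) lev3_b46) (fun i h hi => of_ble_or h hi) lev3_b47) (fun i h hi => of_ble_or h hi) lev3_b48) (fun i h hi => of_ble_or h hi) lev3_b49) (fun i h hi => of_ble_or h hi) lev3_b50) (fun i h hi => of_ble_or h hi) lev3_b51)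 (fun i h hi => of_ble_or h hi) lev3_b52) (fun i h hi => of_ble_or h hi) lev3_b53) (fun i h hi => of_ble_or h hi) lev3_b54) (fun i h hi => of_ble_or h hi) lev3_b55) (fun i h hi => of_ble_or h hi) lev3_b56) (fun i h hi => of_ble_or h hi) lev3_b57) (fun i h hi => of_ble_or h hi) lev3_b58) (fun i h hi => of_ble_or h hi) lev3_b59) (fun i h hi => of_ble_or h hi) lev3_b60) (fun i h hi => of_ble_or h hi) lev3_b61) (fun i h hi => of_ble_or h hi) lev3_b62) (fun i h hi => of_ble_or h hi) lev3_b63) (fun i h hi => of_ble_or h hi) lev3_b64) (fun i h hi => of_ble_or h hi) lev3_b65) (fun i h hi => of_ble_or h hi) lev3_b66) (fun i h hi => of_ble_or h hi) lev3_b67) (fun i h hi => of_ble_or h hi) lev3_b68) (fun i h hi => of_ble_or h hi) lev3_b69) (fun i h hi => of_ble_or h hi) lev3_b70) (fun i h hi => of_ble_or h hi) lev3_b71) (fun i h hi => of_ble_or h hi) lev3_b72) (fun i h hi => of_ble_or h hi) lev3_b73) (fun i h hi => of_ble_or h hi) lev3_b74) (fun i h hi => of_ble_or h hi) lev3_b75) (fun i h hi => of_ble_or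 h hi) lev3_b76) (fun i h hi => of_ble_or h hi) lev3_b77) (fun i h hi => of_ble_or h hi) lev3_b78) (fun i h hi => of_ble_or h hi) lev3_b79) (fun i h hi => of_ble_or h hi) lev3_b80) (fun i h hi => of_ble_or h hi) lev3_b81) (fun i h hi => of_ble_or h hi) lev3_b82) (fun i h hi => of_ble_or h hi) lev3_b83) (fun i h hi => of_ble_or h hi) lev3_b84) (fun i h hi => of_ble_or h hi) lev3_b85) (fun i h hi => of_ble_or h hi) lev3_b86) (fun i h hi => of_ble_or h hi) lev3_b87) (fun i h hi => of_ble_or h hi) lev3_b88) (fun i h hi => of_ble_or h hi) lev3_b89) : ∀ i < 22784 + 2 ^ 8, i < lev3.size → lev3.ok Cfsg.Agent.CosetCert.FiTwentyThree.data.N Cfsg.Agent.CosetCert.FiTwentyThree.data.look i = true)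
    r (lt_of_lt_of_le hr (by decide +kernel)) hr

theorem lev3_gens : ∀ u ∈ lev3.gens, (∀ l ∈ u, l ∈ (List.range Cfsg.Agent.CosetCert.FiTwentyThree.data.cols.length).map (· + 1)) ∧
    ∀ p ∈ [52, 11589, 0], runWord Cfsg.Agent.CosetCert.FiTwentyThree.data.look u p = p := by
  decide +kernel

theorem lev4_ok : ∀ r < lev4.size, lev4.ok Cfsg.Agent.CosetCert.FiTwentyThree.data.N Cfsg.Agent.CosetCert.FiTwentyThree.data.look r = true := fun r hr =>
  ((below_step (f := fun r => Nat.ble lev4.size r || lev4.ok Cfsg.Agent.CosetCert.FiTwentyThree.data.N Cfsg.Agent.CosetCert.FiTwentyThree.data.look r) (below_step (f := fun r => Nat.ble lev4.size r || lev4.ok Cfsg.Agent.CosetCert.FiTwentyThree.data.N Cfsg.Agent.CosetCert.FiTwentyThree.data.look r) (below_step (f := fun r => Nat.ble lev4.size r || lev4.ok Cfsg.Agent.CosetCert.FiTwentyThree.data.N Cfsg.Agent.CosetCert.FiTwentyThree.data.look r) (below_step (f := fun r => Nat.ble lev4.size r || lev4.ok Cfsg.Agent.CosetCert.FiTwentyThree.data.N Cfsg.Agent.CosetCert.FiTwentyThree.data.look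 r) (below_step (f := fun r => Nat.ble lev4.size r || lev4.ok Cfsg.Agent.CosetCert.FiTwentyThree.data.N Cfsg.Agent.CosetCert.FiTwentyThree.data.look r) below_zero (fun i h hi => of_ble_or h hi) lev4_b0) (fun i h hi => of_ble_or h hi) lev4_b1) (fun i h hi => of_ble_or h hi) lev4_b2) (fun i h hi => of_ble_or h hi) lev4_b3) (fun i h hi => of_ble_or h hi) lev4_b4) : ∀ i < 1024 + 2 ^ 8, i < lev4.size → lev4.ok Cfsg.Agent.CosetCert.FiTwentyThree.data.N Cfsg.Agent.CosetCert.FiTwentyThree.data.look i = true)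
    r (lt_of_lt_of_le hr (by decide +kernel)) hr

theorem lev4_gens : ∀ u ∈ lev4.gens, (∀ l ∈ u, l ∈ (List.range Cfsg.Agent.CosetCert.FiTwentyThree.data.cols.length).map (· + 1)) ∧
    ∀ p ∈ [17, 52, 11589, 0], runWord Cfsg.Agent.CosetCert.FiTwentyThree.data.look u p = p := by
  decide +kernel

theorem lev5_ok : ∀ r < lev5.size, lev5.ok Cfsg.Agent.CosetCert.FiTwentyThree.data.N Cfsg.Agent.CosetCert.FiTwentyThree.data.look r = true := fun r hr =>
  ((below_step (f := fun r => Nat.ble lev5.size r || lev5.ok Cfsg.Agent.CosetCert.FiTwentyThree.data.N Cfsg.Agent.CosetCert.FiTwentyThree.data.look r) below_zero (fun i h hi => of_ble_or h hi) lev5_b0) : ∀ i < 0 + 2 ^ 8, i < lev5.size → lev5.ok Cfsg.Agent.CosetCert.FiTwentyThree.data.N Cfsg.Agent.CosetCert.FiTwentyThree.data.look i = true)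
    r (lt_of_lt_of_le hr (by decide +kernel)) hr

theorem lev5_gens : ∀ u ∈ lev5.gens, (∀ l ∈ u, l ∈ (List.range Cfsg.Agent.CosetCert.FiTwentyThree.data.cols.length).map (· + 1)) ∧
    ∀ p ∈ [104, 17, 52, 11589, 0], runWord Cfsg.Agent.CosetCert.FiTwentyThree.data.look u p = p := by
  decide +kernel

theorem chain_valid :
    ChainValid Cfsg.Agent.CosetCert.FiTwentyThree.data.N Cfsg.Agent.CosetCert.FiTwentyThree.data.look ((List.range Cfsg.Agent.CosetCert.FiTwentyThree.data.cols.length).map (· + 1)) [] simpleData.levels :=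
  ⟨lev0_gens, lev0_ok, ⟨lev1_gens, lev1_ok, ⟨lev2_gens, lev2_ok, ⟨lev3_gens, lev3_ok, ⟨lev4_gens, lev4_ok, ⟨lev5_gens, lev5_ok, trivial⟩⟩⟩⟩⟩⟩

theorem wit_all : ∀ i < Cfsg.Agent.CosetCert.FiTwentyThree.data.N,
    (((tblOK Cfsg.Agent.CosetCert.FiTwentyThree.data [3, 4, 1, 5, 10, 6, 2, 9, 3, 4, 5, 7, 10, 8, 9] witX i && tblOK Cfsg.Agent.CosetCert.FiTwentyThree.data [2, 9, 8, 10, 7, 5, 4, 3, 9, 2, 6, 10, 5, 1, 4, 3] witY i) &&
      ((Nat.beq (tblPow witX simpleData.p i) i && (Nat.beq (tblPow witY simpleData.p i) i &&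
        Nat.beq (witX.get 32 (witY.get 32 i)) (Cfsg.Agent.CosetCert.FiTwentyThree.data.look 2 i))) &&
      ((List.range Cfsg.Agent.CosetCert.FiTwentyThree.data.cols.length).all fun l =>
        Nat.beq (Cfsg.Agent.CosetCert.FiTwentyThree.data.look (l + 1) (Cfsg.Agent.CosetCert.FiTwentyThree.data.run (simpleData.conj.getD l (0, [])).2 i))
          (Cfsg.Agent.CosetCert.FiTwentyThree.data.run (simpleData.conj.getD l (0, [])).2 (Cfsg.Agent.CosetCert.FiTwentyThree.data.look 2 i))) &&
      (Nat.beq i 0 || (Nat.beq (simpleData.ord.get 32 (simpleData.rank.get 32 i)) i &&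
        simpleData.iv.any fun q => Nat.ble q.1 (simpleData.rank.get 32 i) && Nat.blt (simpleData.rank.get 32 i) q.2))))) = true :=
  fun k hk => (below_step (f := witOK) (below_step (f := witOK) (below_step (f := witOK) (below_step (f := witOK) (below_step (f := witOK) (below_step (f := witOK) (below_step (f := witOK) (below_step (f := witOK) (below_step (f := witOK) (below_step (f := witOK) (below_step (f := witOK) (below_step (f := witOK) (below_step (f := witOK) (below_step (f := witOK) (below_step (f := witOK) (below_step (f := witOK) (below_step (f := witOK) (below_step (f := witOK) (below_step (f := witOK) (below_step (f := witOK) (below_step (f := witOK) (below_step (f := witOK) (below_step (f := witOK) (below_step (f := witOK) (below_step (f := witOK) (below_step (f := witOK) (below_step (f := witOK) (below_step (f := witOK) (below_step (f := witOK) (below_step (f := witOK) (below_step (f := witOK) (below_step (f := witOK) (below_step (f := witOK) (below_step (f := witOK) (below_step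 (f := witOK) (below_step (f := witOK) (below_step (f := witOK) (below_step (f := witOK) (below_step (f := witOK) (below_step (f := witOK) (below_step (f := witOK) (below_step (f := witOK) (below_step (f := witOK) (below_step (f := witOK) (below_step (f := witOK) (below_step (f := witOK) (below_step (f := witOK) (below_step (f := witOK) (below_step (f := witOK) (below_step (f := witOK) (below_step (f := witOK) (below_step (f := witOK) (below_step (f := witOK) (below_step (f := witOK) (below_step (f := witOK) (below_step (f := witOK) (below_step (f := witOK) (below_step (f := witOK) (below_step (f := witOK) (below_step (f := witOK) (below_step (f := witOK) (below_step (f := witOK) below_zero (fun i h hi => of_ble_or h hi) wit_b0) (fun i h hi => of_ble_or h hi) wit_b1) (fun i h hi => of_ble_or h hi) wit_b2) (fun i h hi => of_ble_or h hi) wit_b3) (fun i h hi => of_ble_or h hi) wit_b4) (fun i h hi => of_ble_or h hi) wit_b5) (fun i h hi => of_ble_or h hi) wit_b6) (fun i h hi => of_ble_or h hi) wit_b7)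 (fun i h hi => of_ble_or h hi) wit_b8) (fun i h hi => of_ble_or h hi) wit_b9) (fun i h hi => of_ble_or h hi) wit_b10) (fun i h hi => of_ble_or h hi) wit_b11) (fun i h hi => of_ble_or h hi) wit_b12) (fun i h hi => of_ble_or h hi) wit_b13) (fun i h hi => of_ble_or h hi) wit_b14) (fun i h hi => of_ble_or h hi) wit_b15) (fun i h hi => of_ble_or h hi) wit_b16) (fun i h hi => of_ble_or h hi) wit_b17) (fun i h hi => of_ble_or h hi) wit_b18) (fun i h hi => of_ble_or h hi) wit_b19) (fun i h hi => of_ble_or h hi) wit_b20) (fun i h hi => of_ble_or h hi) wit_b21) (fun i h hi => of_ble_or h hi) wit_b22) (fun i h hi => of_ble_or h hi) wit_b23) (fun i h hi => of_ble_or h hi) wit_b24) (fun i h hi => of_ble_or h hi) wit_b25) (fun i h hi => of_ble_or h hi) wit_b26) (fun i h hi => of_ble_or h hi) wit_b27) (fun i h hi => of_ble_or h hi) wit_b28) (fun i h hi => of_ble_or h hi) wit_b29) (fun i h hi => of_ble_or h hi) wit_b30) (fun i h hi => of_ble_or h hi) wit_b31) (fun i h hi => of_ble_or h hi) wit_b32) (fun i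 h hi => of_ble_or h hi) wit_b33) (fun i h hi => of_ble_or h hi) wit_b34) (fun i h hi => of_ble_or h hi) wit_b35) (fun i h hi => of_ble_or h hi) wit_b36) (fun i h hi => of_ble_or h hi) wit_b37) (fun i h hi => of_ble_or h hi) wit_b38) (fun i h hi => of_ble_or h hi) wit_b39) (fun i h hi => of_ble_or h hi) wit_b40) (fun i h hi => of_ble_or h hi) wit_b41) (fun i h hi => of_ble_or h hi) wit_b42) (fun i h hi => of_ble_or h hi) wit_b43) (fun i h hi => of_ble_or h hi) wit_b44) (fun i h hi => of_ble_or h hi) wit_b45) (fun i h hi => of_ble_or h hi) wit_b46) (fun i h hi => of_ble_or h hi) wit_b47) (fun i h hi => of_ble_or h hi) wit_b48) (fun i h hi => of_ble_or h hi) wit_b49) (fun i h hi => of_ble_or h hi) wit_b50) (fun i h hi => of_ble_or h hi) wit_b51) (fun i h hi => of_ble_or h hi) wit_b52) (fun i h hi => of_ble_or h hi) wit_b53) (fun i h hi => of_ble_or h hi) wit_b54) (fun i h hi => of_ble_or h hi) wit_b55) (fun i h hi => of_ble_or h hi) wit_b56) (fun i h hi => of_ble_or h hi) wit_b57) (fun i h hi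 => of_ble_or h hi) wit_b58) (fun i h hi => of_ble_or h hi) wit_b59) (fun i h hi => of_ble_or h hi) wit_b60) (fun i h hi => of_ble_or h hi) wit_b61) k (lt_of_lt_of_le hk (by decide +kernel)) hk

theorem points_ok : ∀ i < Cfsg.Agent.CosetCert.FiTwentyThree.data.N, simpleData.pointOK Cfsg.Agent.CosetCert.FiTwentyThree.data i = true := by
  have h : ∀ i < Cfsg.Agent.CosetCert.FiTwentyThree.data.N, _ := wit_all
  refine pointOK_of_table Cfsg.Agent.CosetCert.FiTwentyThree.data simpleData 2 [3, 4, 1, 5, 10, 6, 2, 9, 3, 4, 5, 7, 10, 8, 9] [2, 9, 8, 10, 7, 5, 4, 3, 9, 2, 6, 10, 5, 1, 4, 3] witX witY rfl (fun i hi => ?_) (fun i hi => ?_) (fun i hi => ?_) (fun i hi => ?_) (fun i hi => ?_) (by decide +kernel)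
  all_goals
    have hh := h i hi
    simp only [Bool.and_eq_true] at hh ⊢
  · exact hh.1.1
  · exact hh.1.2
  · exact hh.2.1.1
  · exact hh.2.1.2
  · exact hh.2.2

/-- The intervals are valid suborbits. -/
theorem intervals_valid : ∀ q ∈ simpleData.iv, (simpleData.orbitOf q).Valid Cfsg.Agent.CosetCert.FiTwentyThree.data := by
  intro q hq
  simp only [simpleData, List.mem_cons, List.not_mem_nil, or_false] at hq
  rcases hq with rfl | rfl
  · exact Cfsg.Agent.CosetCert.FiTwentyThree.orbit0_valid
  · exact Cfsg.Agent.CosetCert.FiTwentyThree.orbit1_valid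

end Cfsg.Agent.CosetEnum.FiTwentyThree
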