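import Cfsg.Agent.CosetEnum.FiTwentyThree.StepFCheck0
import Cfsg.Agent.CosetEnum.FiTwentyThree.StepFCheck1
import Cfsg.Agent.CosetEnum.FiTwentyThree.StepFCheck2
import Cfsg.Agent.CosetEnum.FiTwentyThree.StepFCheck3
import Cfsg.Agent.CosetEnum.FiTwentyThree.StepFCheck4

/-! Machine-generated checks. -/

set_option maxRecDepth 100000
set_option Elab.async false

namespace Cfsg.Agent.CosetEnum.FiTwentyThree

open Cfsg.Agent.CosetCert

theorem stepF_valid : stepF.Valid where
  pos := by decide +kernel
  node_zero := by decide +kernel
  subs_unpack := by decide +kernel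
  rules_ok := by
    have h : allB (fun i => Nat.ble stepF.nr i || stepF.ruleOK (stepF.rules.get stepF.rbits i)) 9 0 = true := by
      decide +kernel
    exact fun i hi => of_ble_or (allB_spec_zero h (by decide +kernel) hi) hi
  facts := fun k hk => ((below_step (f := fun k => Nat.ble stepF.nf k || stepF.cert.factOK k) (below_step (f := fun k => Nat.ble stepF.nf k || stepF.cert.factOK k) (below_step (f := fun k => Nat.ble stepF.nf k || stepF.cert.factOK k) (below_step (f := fun k => Nat.ble stepF.nf k || stepF.cert.factOK k) (below_step (f := fun k => Nat.ble stepF.nf k || stepF.cert.factOK k) (below_step (f := fun k => Nat.ble stepF.nf k || stepF.cert.factOK k) (below_step (f := fun k => Nat.ble stepF.nf k || stepF.cert.factOK k) (below_step (f := fun k => Nat.ble stepF.nf k || stepF.cert.factOK k) (below_step (f := fun k => Nat.ble stepF.nf k || stepF.cert.factOK k) (below_step (f := fun k => Nat.ble stepF.nf k || stepF.cert.factOK k) (below_step (f := fun k => Nat.ble stepF.nf k || stepF.cert.factOK k) (below_step (f := fun k => Nat.ble stepF.nf k || stepF.cert.factOK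 k) (below_step (f := fun k => Nat.ble stepF.nf k || stepF.cert.factOK k) (below_step (f := fun k => Nat.ble stepF.nf k || stepF.cert.factOK k) (below_step (f := fun k => Nat.ble stepF.nf k || stepF.cert.factOK k) (below_step (f := fun k => Nat.ble stepF.nf k || stepF.cert.factOK k) (below_step (f := fun k => Nat.ble stepF.nf k || stepF.cert.factOK k) (below_step (f := fun k => Nat.ble stepF.nf k || stepF.cert.factOK k) (below_step (f := fun k => Nat.ble stepF.nf k || stepF.cert.factOK k) (below_step (f := fun k => Nat.ble stepF.nf k || stepF.cert.factOK k) (below_step (f := fun k => Nat.ble stepF.nf k || stepF.cert.factOK k) (below_step (f := fun k => Nat.ble stepF.nf k || stepF.cert.factOK k) (below_step (f := fun k => Nat.ble stepF.nf k || stepF.cert.factOK k) (below_step (f := fun k => Nat.ble stepF.nf k || stepF.cert.factOK k) (below_step (f := fun k => Nat.ble stepF.nf k || stepF.cert.factOK k) (below_step (f := fun k => Nat.ble stepF.nf k || stepF.cert.factOK k) (below_step (f := fun k => Nat.ble stepF.nf k || stepF.cert.factOK k) (below_step (f := fun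 k => Nat.ble stepF.nf k || stepF.cert.factOK k) (below_step (f := fun k => Nat.ble stepF.nf k || stepF.cert.factOK k) (below_step (f := fun k => Nat.ble stepF.nf k || stepF.cert.factOK k) (below_step (f := fun k => Nat.ble stepF.nf k || stepF.cert.factOK k) (below_step (f := fun k => Nat.ble stepF.nf k || stepF.cert.factOK k) (below_step (f := fun k => Nat.ble stepF.nf k || stepF.cert.factOK k) (below_step (f := fun k => Nat.ble stepF.nf k || stepF.cert.factOK k) (below_step (f := fun k => Nat.ble stepF.nf k || stepF.cert.factOK k) (below_step (f := fun k => Nat.ble stepF.nf k || stepF.cert.factOK k) (below_step (f := fun k => Nat.ble stepF.nf k || stepF.cert.factOK k) (below_step (f := fun k => Nat.ble stepF.nf k || stepF.cert.factOK k) (below_step (f := fun k => Nat.ble stepF.nf k || stepF.cert.factOK k) (below_step (f := fun k => Nat.ble stepF.nf k || stepF.cert.factOK k) (below_step (f := fun k => Nat.ble stepF.nf k || stepF.cert.factOK k) below_zero (fun i h hi => of_ble_or h hi) stepF_fb0) (fun i h hi => of_ble_or h hi) stepF_fb1) (fun i h hi => of_ble_or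 h hi) stepF_fb2) (fun i h hi => of_ble_or h hi) stepF_fb3) (fun i h hi => of_ble_or h hi) stepF_fb4) (fun i h hi => of_ble_or h hi) stepF_fb5) (fun i h hi => of_ble_or h hi) stepF_fb6) (fun i h hi => of_ble_or h hi) stepF_fb7) (fun i h hi => of_ble_or h hi) stepF_fb8) (fun i h hi => of_ble_or h hi) stepF_fb9) (fun i h hi => of_ble_or h hi) stepF_fb10) (fun i h hi => of_ble_or h hi) stepF_fb11) (fun i h hi => of_ble_or h hi) stepF_fb12) (fun i h hi => of_ble_or h hi) stepF_fb13) (fun i h hi => of_ble_or h hi) stepF_fb14) (fun i h hi => of_ble_or h hi) stepF_fb15) (fun i h hi => of_ble_or h hi) stepF_fb16) (fun i h hi => of_ble_or h hi) stepF_fb17) (fun i h hi => of_ble_or h hi) stepF_fb18) (fun i h hi => of_ble_or h hi) stepF_fb19) (fun i h hi => of_ble_or h hi) stepF_fb20) (fun i h hi => of_ble_or h hi) stepF_fb21) (fun i h hi => of_ble_or h hi) stepF_fb22) (fun i h hi => of_ble_or h hi) stepF_fb23) (fun i h hi => of_ble_or h hi) stepF_fb24) (fun i h hi => of_ble_or h hi) stepF_fb25) (fun i h hi => of_ble_or h hi) stepF_fb26) (fun i h hi => of_ble_or h hi)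 stepF_fb27) (fun i h hi => of_ble_or h hi) stepF_fb28) (fun i h hi => of_ble_or h hi) stepF_fb29) (fun i h hi => of_ble_or h hi) stepF_fb30) (fun i h hi => of_ble_or h hi) stepF_fb31) (fun i h hi => of_ble_or h hi) stepF_fb32) (fun i h hi => of_ble_or h hi) stepF_fb33) (fun i h hi => of_ble_or h hi) stepF_fb34) (fun i h hi => of_ble_or h hi) stepF_fb35) (fun i h hi => of_ble_or h hi) stepF_fb36) (fun i h hi => of_ble_or h hi) stepF_fb37) (fun i h hi => of_ble_or h hi) stepF_fb38) (fun i h hi => of_ble_or h hi) stepF_fb39) (fun i h hi => of_ble_or h hi) stepF_fb40) : ∀ i < 81920 + 2 ^ 11, i < stepF.nf → stepF.cert.factOK i = true)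
    k (lt_of_lt_of_le hk (by decide +kernel)) hk
  edge := fun i hi l hl => by
    have h := of_ble_or (allB_spec_zero stepF_pb (by decide +kernel : stepF.N ≤ 2 ^ 14) hi) hi
    exact List.all_eq_true.1 h l hl

end Cfsg.Agent.CosetEnum.FiTwentyThree
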