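import Cfsg.Agent.CosetEnum.FiTwentyThree.SimpleDefs

/-! Machine-generated data and checks. -/

set_option maxRecDepth 100000
set_option Elab.async false

namespace Cfsg.Agent.CosetEnum.FiTwentyThree

open Cfsg.Agent.CosetCert

theorem lev3_b51 : allB (fun r => Nat.ble lev3.size r || lev3.ok Cfsg.Agent.CosetCert.FiTwentyThree.data.N Cfsg.Agent.CosetCert.FiTwentyThree.data.look r) 8 13056 = true := by
  decide +kernel

theorem lev3_b52 : allB (fun r => Nat.ble lev3.size r || lev3.ok Cfsg.Agent.CosetCert.FiTwentyThree.data.N Cfsg.Agent.CosetCert.FiTwentyThree.data.look r) 8 13312 = true := by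
  decide +kernel

theorem lev3_b53 : allB (fun r => Nat.ble lev3.size r || lev3.ok Cfsg.Agent.CosetCert.FiTwentyThree.data.N Cfsg.Agent.CosetCert.FiTwentyThree.data.look r) 8 13568 = true := by
  decide +kernel

theorem lev3_b54 : allB (fun r => Nat.ble lev3.size r || lev3.ok Cfsg.Agent.CosetCert.FiTwentyThree.data.N Cfsg.Agent.CosetCert.FiTwentyThree.data.look r) 8 13824 = true := by
  decide +kernel

theorem lev3_b55 : allB (fun r => Nat.ble lev3.size r || lev3.ok Cfsg.Agent.CosetCert.FiTwentyThree.data.N Cfsg.Agent.CosetCert.FiTwentyThree.data.look r) 8 14080 = true := by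
  decide +kernel

theorem lev3_b56 : allB (fun r => Nat.ble lev3.size r || lev3.ok Cfsg.Agent.CosetCert.FiTwentyThree.data.N Cfsg.Agent.CosetCert.FiTwentyThree.data.look r) 8 14336 = true := by
  decide +kernel

theorem lev3_b57 : allB (fun r => Nat.ble lev3.size r || lev3.ok Cfsg.Agent.CosetCert.FiTwentyThree.data.N Cfsg.Agent.CosetCert.FiTwentyThree.data.look r) 8 14592 = true := by
  decide +kernel

theorem lev3_b58 : allB (fun r => Nat.ble lev3.size r || lev3.ok Cfsg.Agent.CosetCert.FiTwentyThree.data.N Cfsg.Agent.CosetCert.FiTwentyThree.data.look r) 8 14848 = true := by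
  decide +kernel

theorem lev3_b59 : allB (fun r => Nat.ble lev3.size r || lev3.ok Cfsg.Agent.CosetCert.FiTwentyThree.data.N Cfsg.Agent.CosetCert.FiTwentyThree.data.look r) 8 15104 = true := by
  decide +kernel

theorem lev3_b60 : allB (fun r => Nat.ble lev3.size r || lev3.ok Cfsg.Agent.CosetCert.FiTwentyThree.data.N Cfsg.Agent.CosetCert.FiTwentyThree.data.look r) 8 15360 = true := by
  decide +kernel

theorem lev3_b61 : allB (fun r => Nat.ble lev3.size r || lev3.ok Cfsg.Agent.CosetCert.FiTwentyThree.data.N Cfsg.Agent.CosetCert.FiTwentyThree.data.look r) 8 15616 = true := by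
  decide +kernel

theorem lev3_b62 : allB (fun r => Nat.ble lev3.size r || lev3.ok Cfsg.Agent.CosetCert.FiTwentyThree.data.N Cfsg.Agent.CosetCert.FiTwentyThree.data.look r) 8 15872 = true := by
  decide +kernel

theorem lev3_b63 : allB (fun r => Nat.ble lev3.size r || lev3.ok Cfsg.Agent.CosetCert.FiTwentyThree.data.N Cfsg.Agent.CosetCert.FiTwentyThree.data.look r) 8 16128 = true := by
  decide +kernel

theorem lev3_b64 : allB (fun r => Nat.ble lev3.size r || lev3.ok Cfsg.Agent.CosetCert.FiTwentyThree.data.N Cfsg.Agent.CosetCert.FiTwentyThree.data.look r) 8 16384 = true := by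
  decide +kernel

theorem lev3_b65 : allB (fun r => Nat.ble lev3.size r || lev3.ok Cfsg.Agent.CosetCert.FiTwentyThree.data.N Cfsg.Agent.CosetCert.FiTwentyThree.data.look r) 8 16640 = true := by
  decide +kernel

theorem lev3_b66 : allB (fun r => Nat.ble lev3.size r || lev3.ok Cfsg.Agent.CosetCert.FiTwentyThree.data.N Cfsg.Agent.CosetCert.FiTwentyThree.data.look r) 8 16896 = true := by
  decide +kernel

theorem lev3_b67 : allB (fun r => Nat.ble lev3.size r || lev3.ok Cfsg.Agent.CosetCert.FiTwentyThree.data.N Cfsg.Agent.CosetCert.FiTwentyThree.data.look r) 8 17152 = true := by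
  decide +kernel

theorem lev3_b68 : allB (fun r => Nat.ble lev3.size r || lev3.ok Cfsg.Agent.CosetCert.FiTwentyThree.data.N Cfsg.Agent.CosetCert.FiTwentyThree.data.look r) 8 17408 = true := by
  decide +kernel

theorem lev3_b69 : allB (fun r => Nat.ble lev3.size r || lev3.ok Cfsg.Agent.CosetCert.FiTwentyThree.data.N Cfsg.Agent.CosetCert.FiTwentyThree.data.look r) 8 17664 = true := by
  decide +kernel

end Cfsg.Agent.CosetEnum.FiTwentyThree
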